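import Mathlib

/-!
The arithmetic of the strongly regular parameters when the local group has a noncentral 3-core.
-/

set_option autoImplicit false

namespace CfsgLib.ThreeTransp.LocalThree

/-- `3 ^ i * B` is no square when `B` is `2` modulo `3`. -/
theorem not_sq_two_mod {B : ℤ} (hB : B % 3 = 2) : ∀ (i : ℕ) (x : ℤ), x * x ≠ 3 ^ i * B := by
  intro i
  induction i using Nat.twoStepInduction with
  | zero =>
    intro x hx
    rw [pow_zero, one_mul] at hx
    have h1 : (x % 3) * (x % 3) % 3 = 2 := by rw [← Int.mul_emod, hx, hB]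
    have h2 := Int.emod_nonneg x (show (3 : ℤ) ≠ 0 by norm_num)
    have h3 := Int.emod_lt_of_pos x (show (0 : ℤ) < 3 by norm_num)
    interval_cases (x % 3) <;> simp at h1
  | one =>
    intro x hx
    rw [pow_one] at hx
    have h0 : (3 : ℤ) ∣ x := by
      have := Int.prime_three.dvd_mul.1 (hx ▸ dvd_mul_right 3 B : (3 : ℤ) ∣ x * x)
      exact this.elim id id
    obtain ⟨c, rfl⟩ := h0
    have : B = 3 * (c * c) := by linarith
    omega
  | more i ih _ =>
    intro x hx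
    have h0 : (3 : ℤ) ∣ x := by
      have h1 : (3 : ℤ) ∣ x * x := hx ▸ dvd_mul_of_dvd_left (dvd_pow_self 3 (by omega)) B
      exact (Int.prime_three.dvd_mul.1 h1).elim id id
    obtain ⟨c, rfl⟩ := h0
    refine ih c ?_
    have h2 : (3 * c) * (3 * c) = 9 * (3 ^ i * B) := by rw [hx]; ring
    linarith

/-- The case of one point in each exchange set. -/
theorem case_one {q k lam m' : ℕ} {D0 : ℤ} (hq : 3 ≤ q)
    (hk : k = lam + q * m') (hD : D0 * D0 = 1 + 4 * ((k : ℤ) - lam - 1))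
    (h1 : D0 ∣ (k : ℤ) * (1 - 2)) (h3 : D0 ∣ 2 * (1 * ((lam : ℤ) + 1 - 1) - 2 * k))
    (hu : (k : ℤ) - lam - q = lam * ((q : ℤ) - 1)) : q = 3 ∧ lam = 0 ∧ k = 3 := by
  have e1 : D0 ∣ (k : ℤ) := by
    have := h1.neg_right
    simpa using this
  have e2 : D0 ∣ 2 * (lam : ℤ) := by
    have h := dvd_add h3 (dvd_mul_of_dvd_right e1 4)
    rwa [show 2 * (1 * ((lam : ℤ) + 1 - 1) - 2 * k) + 4 * k = 2 * lam by ring] at h
  have e3 : D0 ∣ 3 := by
    have h := dvd_sub (dvd_sub (dvd_mul_of_dvd_right e1 4) (dvd_mul_of_dvd_right e2 2))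
      (dvd_mul_right D0 D0)
    rwa [hD, show 4 * (k : ℤ) - 2 * (2 * lam) - (1 + 4 * ((k : ℤ) - lam - 1)) = 3 by ring] at h
  have hb : D0 * D0 ≤ 9 := by
    have h4 := Int.le_of_dvd (by norm_num) e3
    have h5 := Int.le_of_dvd (by norm_num) (neg_dvd.2 e3)
    nlinarith
  have hm : (k : ℤ) - lam = q * m' := by rw [hk]; push_cast; ring
  rw [hm] at hD
  rcases Nat.eq_zero_or_pos m' with rfl | hpos
  · exfalso
    push_cast at hD
    nlinarith [mul_self_nonneg D0]
  have h6 : q * m' ≤ 3 := by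
    have : ((q * m' : ℕ) : ℤ) ≤ 3 := by push_cast; linarith
    exact_mod_cast this
  have h7 : q ≤ q * m' := Nat.le_mul_of_pos_right q hpos
  have hq3 : q = 3 := by omega
  have hm1 : q * m' = 3 := by omega
  have hl : lam = 0 := by
    rw [hm, hq3] at hu
    have : ((q * m' : ℕ) : ℤ) = 3 := by rw [hm1]; norm_num
    push_cast at this
    rw [hq3] at this
    push_cast at hu this
    omega
  exact ⟨hq3, hl, by omega⟩

/-- The case of exchange sets as large as the blocks. -/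
theorem case_block {r : ℕ} {j D0 : ℤ} (hr : 1 ≤ r) (hj : 1 ≤ j) (hD0 : 0 ≤ D0)
    (hD : D0 * D0 = (3 : ℤ) ^ r * 3 ^ r + 4 * 3 ^ r * ((3 : ℤ) ^ r - 1) * j)
    (hk : D0 ∣ 3 ^ r * (1 + (2 * (3 : ℤ) ^ r - 1) * j))
    (hn : D0 ∣ 2 * (3 ^ r * ((3 : ℤ) ^ r * 3 ^ r * j + 3 ^ r - 1))) : False := by
  obtain ⟨q, hq⟩ : ∃ q : ℤ, q = 3 ^ r := ⟨_, rfl⟩
  rw [← hq] at hD hk hn
  have hq3 : 3 ≤ q := by rw [hq]; exact le_self_pow₀ (by norm_num) (by omega)
  have hqodd : q % 2 = 1 := by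
    rw [hq, Int.emod_two_ne_zero.symm]
    intro h
    have h2 : (2 : ℤ) ∣ 3 ^ r := Int.dvd_of_emod_eq_zero h
    have := Int.prime_two.dvd_of_dvd_pow h2
    norm_num at this
  have hodd : D0 % 2 = 1 := by
    have h1 : (D0 * D0) % 2 = 1 := by
      rw [hD, show q * q + 4 * q * (q - 1) * j = q * q + 2 * (2 * q * (q - 1) * j) by ring,
        Int.add_mul_emod_self_left, Int.mul_emod, hqodd]
      norm_num
    rw [Int.mul_emod] at h1
    have h2 := Int.emod_two_eq_zero_or_one D0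
    rcases h2 with h2 | h2
    · rw [h2] at h1; norm_num at h1
    · exact h2
  have c2 : IsCoprime D0 2 := by
    rw [Int.isCoprime_iff_nat_coprime]
    exact Nat.coprime_two_right.2 (Nat.odd_iff.2 (by omega))
  have hn' : D0 ∣ q * (q * q * j + q - 1) := c2.dvd_of_dvd_mul_left hn
  -- two quadratic expressions
  have a1 : D0 ∣ q * (2 * q * q - 5 * q + 4) := by
    have h := dvd_sub ((dvd_mul_right D0 D0).mul_left (2 * q - 1)) (hk.mul_left (4 * (q - 1)))
    rwa [hD, show (2 * q - 1) * (q * q + 4 * q * (q - 1) * j) -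
      4 * (q - 1) * (q * (1 + (2 * q - 1) * j)) = q * (2 * q * q - 5 * q + 4) by ring] at h
  have a2 : D0 ∣ q * (q * q * q - 4 * (q - 1) * (q - 1)) := by
    have h := dvd_sub ((dvd_mul_right D0 D0).mul_left (q * q)) (hn'.mul_left (4 * (q - 1)))
    rwa [hD, show q * q * (q * q + 4 * q * (q - 1) * j) -
      4 * (q - 1) * (q * (q * q * j + q - 1)) = q * (q * q * q - 4 * (q - 1) * (q - 1)) by ring] at h
  have a3 : D0 ∣ q * (9 * q - 4) := by
    have h := dvd_sub (a2.mul_left 4) (a1.mul_left (2 * q - 3))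
    rwa [show 4 * (q * (q * q * q - 4 * (q - 1) * (q - 1))) -
      (2 * q - 3) * (q * (2 * q * q - 5 * q + 4)) = q * (9 * q - 4) by ring] at h
  have a4 : D0 ∣ 11 * q := by
    have h := dvd_sub (a1.mul_left 81) (a3.mul_left (18 * q - 37))
    rw [show 81 * (q * (2 * q * q - 5 * q + 4)) - (18 * q - 37) * (q * (9 * q - 4)) =
      2 * (2 * (2 * (2 * (11 * q)))) by ring] at h
    exact c2.dvd_of_dvd_mul_left (c2.dvd_of_dvd_mul_left (c2.dvd_of_dvd_mul_left
      (c2.dvd_of_dvd_mul_left h)))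
  have hgt : q < D0 := by
    by_contra hle
    push_neg at hle
    have : 0 < 4 * q * (q - 1) * j := by
      have : 0 < q - 1 := by linarith
      positivity
    nlinarith
  -- so `D0` is eleven times a power of three
  obtain ⟨N0, hN0⟩ := Int.eq_ofNat_of_zero_le hD0
  have hN : N0 ∣ 11 * 3 ^ r := by
    rw [← Int.natCast_dvd_natCast]
    push_cast
    rw [← hq, ← hN0]; exact a4
  obtain ⟨d1, d2, hd1, hd2, hd⟩ := exists_dvd_and_dvd_of_dvd_mul hN
  obtain ⟨i, hi, rfl⟩ := (Nat.dvd_prime_pow Nat.prime_three).1 hd2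
  rcases (Nat.dvd_prime (by norm_num : Nat.Prime 11)).1 hd1 with rfl | rfl
  · have h1 : N0 ≤ 3 ^ r := by rw [hd, one_mul]; exact Nat.pow_le_pow_right (by norm_num) hi
    have : D0 ≤ q := by rw [hN0, hq]; exact_mod_cast h1
    omega
  have hD0' : D0 = 11 * 3 ^ i := by rw [hN0, hd]; push_cast; ring
  have e11 : (11 : ℤ) ∣ 2 * q * q - 5 * q + 4 ∧ (11 : ℤ) ∣ 9 * q - 4 := by
    have h11 : Prime (11 : ℤ) := by
      rw [Int.prime_iff_natAbs_prime]; norm_num
    have hq11 : ¬ (11 : ℤ) ∣ q := by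
      rw [hq]; intro h; have := h11.dvd_of_dvd_pow h; norm_num at this
    have hdd : (11 : ℤ) ∣ D0 := hD0' ▸ dvd_mul_right _ _
    exact ⟨(h11.dvd_mul.1 (hdd.trans a1)).resolve_left hq11,
      (h11.dvd_mul.1 (hdd.trans a3)).resolve_left hq11⟩
  -- the exponent
  have hD' : 121 * (3 : ℤ) ^ (2 * i) = q * (q + 4 * (q - 1) * j) := by
    have e : (3 : ℤ) ^ (2 * i) = 3 ^ i * 3 ^ i := by rw [two_mul, pow_add]
    rw [e]; rw [hD0'] at hD; linarith
  have hri : r ≤ 2 * i := by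
    by_contra hlt
    push_neg at hlt
    obtain ⟨s, rfl⟩ : ∃ s, r = 2 * i + (s + 1) := ⟨r - 2 * i - 1, by omega⟩
    have h3 : (3 : ℤ) ∣ 121 := by
      have hne : (3 : ℤ) ^ (2 * i) ≠ 0 := by positivity
      refine ⟨3 ^ s * (q + 4 * (q - 1) * j), mul_right_cancel₀ hne ?_⟩
      have hqs : q = 3 ^ (2 * i) * (3 ^ s * 3) := by rw [hq, pow_add, pow_succ]
      rw [hD']
      calc q * (q + 4 * (q - 1) * j) = (3 ^ (2 * i) * (3 ^ s * 3)) * (q + 4 * (q - 1) * j) := by
            rw [← hqs]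
        _ = _ := by ring
    norm_num at h3
  obtain ⟨t, ht⟩ := Nat.exists_eq_add_of_le hri
  have he : 121 * (3 : ℤ) ^ t = q + 4 * (q - 1) * j := by
    have hne : q ≠ 0 := by linarith
    apply mul_left_cancel₀ hne
    rw [← hD', ht, pow_add, ← hq]; ring
  obtain ⟨e, rfl⟩ : ∃ e, r = t + 2 * e := ⟨r - i, by omega⟩
  have hqe : q = 3 ^ t * 9 ^ e := by
    rw [hq, pow_add, pow_mul]; norm_num
  have hbig : 5 * q - 4 ≤ 121 * 3 ^ t := by
    rw [he]; nlinarith
  have hT : (1 : ℤ) ≤ 3 ^ t := one_le_pow₀ (by norm_num)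
  rcases e with _ | _ | e
  · -- `q = 3 ^ t`
    rw [pow_zero, mul_one] at hqe
    have h1 : 30 * q = (q - 1) * j := by
      rw [← hqe] at he; linarith
    have h2 : q - 1 ∣ 30 := by
      refine ⟨j - 30, ?_⟩
      linarith
    have h3 := Int.le_of_dvd (by norm_num) h2
    rcases Nat.lt_or_ge t 4 with h4 | h4
    · interval_cases t
      all_goals norm_num at hqe
      all_goals first
        | (norm_num [hqe] at e11; done)
        | (norm_num [hqe] at h2; done)
    · have : (81 : ℤ) ≤ 3 ^ t := by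
        calc (81 : ℤ) = 3 ^ 4 := by norm_num
          _ ≤ 3 ^ t := pow_le_pow_right₀ (by norm_num) h4
      linarith
  · -- `q = 9 * 3 ^ t`
    rw [zero_add, pow_one] at hqe
    have h1 : 28 * 3 ^ t = (q - 1) * j := by linarith
    have h2 : q - 1 ∣ 28 := by
      refine ⟨9 * j - 28 * 1 - 0, ?_⟩
      nlinarith
    have h3 := Int.le_of_dvd (by norm_num) h2
    rcases Nat.lt_or_ge t 2 with h4 | h4
    · interval_cases t
      all_goals norm_num at hqe
      all_goals first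
        | (norm_num [hqe] at e11; done)
        | (norm_num [hqe] at h2; done)
    · have : (9 : ℤ) ≤ 3 ^ t := by
        calc (9 : ℤ) = 3 ^ 2 := by norm_num
          _ ≤ 3 ^ t := pow_le_pow_right₀ (by norm_num) h4
      linarith
  · have : (81 : ℤ) ≤ 9 ^ (e + 2) := by
      calc (81 : ℤ) = 9 ^ 2 := by norm_num
        _ ≤ 9 ^ (e + 2) := pow_le_pow_right₀ (by norm_num) (by omega)
    nlinarith

end CfsgLib.ThreeTransp.LocalThree
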