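import Mathlib
import Cfsg.Agent.Lib.ThreeTransp.ZStarOdd
import Cfsg.Agent.Lib.ThreeTransp.Neighbours
import Cfsg.Agent.Lib.Base.Cores

/-!
Non-commuting transpositions with the same commuting sets are congruent modulo the 3-core.
-/

set_option autoImplicit false
set_option linter.style.haveILetI false

namespace CfsgLib.ThreeTransp.LocalThree

open Cfsg CfsgLib.Involutions CfsgLib.ThreeTransp

universe u

variable {G : Type u} [Group G] {D : Set G}

theorem nb_conj_eq (hconj : ∀ g : G, ∀ d ∈ D, g * d * g⁻¹ ∈ D) (g x : G) :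
    nb D (g * x * g⁻¹) = (fun y => g * y * g⁻¹) '' nb D x := by
  ext v
  constructor
  · rintro ⟨hv, hne, hc⟩
    refine ⟨g⁻¹ * v * g⁻¹⁻¹, ⟨hconj g⁻¹ v hv, fun e => hne ?_, ?_⟩, by group⟩
    · calc v = g * (g⁻¹ * v * g⁻¹⁻¹) * g⁻¹ := by group
        _ = g * x * g⁻¹ := by rw [e]
    · have h1 := (commute_conj_iff g⁻¹).2 hc
      simpa [mul_assoc] using h1
  · rintro ⟨y, ⟨hy, hne, hc⟩, rfl⟩
    exact ⟨hconj g y hy, fun e => hne (mul_left_cancel (mul_right_cancel e)),
      (commute_conj_iff g).2 hc⟩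

theorem nb_conj_congr (hconj : ∀ g : G, ∀ d ∈ D, g * d * g⁻¹ ∈ D) (g : G) {x y : G}
    (h : nb D x = nb D y) : nb D (g * x * g⁻¹) = nb D (g * y * g⁻¹) := by
  rw [nb_conj_eq hconj, nb_conj_eq hconj, h]

/-- The elements moving every member inside its class of twins. -/
def twinKer (hconj : ∀ g : G, ∀ d ∈ D, g * d * g⁻¹ ∈ D) : Subgroup G where
  carrier := {g | ∀ v ∈ D, nb D (g * v * g⁻¹) = nb D v}
  one_mem' := fun v _ => by simp
  mul_mem' {g g'} hg hg' v hv := by
    have h1 := nb_conj_congr hconj g (hg' v hv)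
    rw [hg v hv] at h1
    simpa [mul_assoc] using h1
  inv_mem' {g} hg v hv := by
    have h1 := hg _ (hconj g⁻¹ v hv)
    have e : g * (g⁻¹ * v * g⁻¹⁻¹) * g⁻¹ = v := by group
    rw [e] at h1
    exact h1.symm

theorem twinKer_normal (hconj : ∀ g : G, ∀ d ∈ D, g * d * g⁻¹ ∈ D) : (twinKer hconj).Normal := by
  refine ⟨fun k hk g v hv => ?_⟩
  have h1 := nb_conj_congr hconj g (hk _ (hconj g⁻¹ v hv))
  simpa [mul_assoc] using h1

variable (hT : IsThreeTranspositionSet D) (hconj : ∀ g : G, ∀ d ∈ D, g * d * g⁻¹ ∈ D)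
include hT hconj

theorem twin_ne_commute {v w : G} (hv : v ∈ D) (h : nb D v = nb D w) (hne : v ≠ w) :
    ¬ Commute v w := fun hc => by
  have : v ∈ nb D v := h.symm ▸ (⟨hv, hne, hc.symm⟩ : v ∈ nb D w)
  exact this.2.1 rfl

theorem mul_mem_twinKer {x z : G} (hx : x ∈ D) (hz : z ∈ D) (h : nb D x = nb D z) (hne : x ≠ z) :
    x * z ∈ twinKer hconj := by
  have hnc := twin_ne_commute hT hconj hx h hne
  intro v hv
  have ix := ts_inv hT hx
  have iz := ts_inv hT hz
  have eg : x * z * v * (x * z)⁻¹ = x * (z * v * z) * x := by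
    rw [mul_inv_rev, ix, iz]; group
  rw [eg]
  -- it suffices that the two images agree
  suffices he : nb D (z * v * z) = nb D (x * v * x) by
    have h1 := nb_conj_congr hconj x he
    rw [ix] at h1
    rw [h1]
    congr 1
    simp only [mul_assoc, ts_mul_self hT hx, mul_one]
    rw [← mul_assoc, ts_mul_self hT hx, one_mul]
  have fixz : ∀ {u : G}, Commute z u → z * u * z = u := fun {u} e => by
    rw [e.eq, mul_assoc, ts_mul_self hT hz, mul_one]
  have fixx : ∀ {u : G}, Commute x u → x * u * x = u := fun {u} e => by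
    rw [e.eq, mul_assoc, ts_mul_self hT hx, mul_one]
  by_cases hvx : v = x
  · subst hvx
    have h1 := nb_conj_congr hconj z h
    rw [iz, fixz (Commute.refl z)] at h1
    rw [h1, fixx (Commute.refl v), h]
  by_cases hvz : v = z
  · subst hvz
    have h1 := nb_conj_congr hconj x h
    rw [ix, fixx (Commute.refl x)] at h1
    rw [← h1, fixz (Commute.refl v), ← h]
  by_cases hxv : Commute x v
  · have hzv : Commute z v := (h ▸ (⟨hv, hvx, hxv⟩ : v ∈ nb D x) : v ∈ nb D z).2.2
    rw [fixz hzv, fixx hxv]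
  · have hzv : ¬ Commute z v := fun e =>
      hxv (h.symm ▸ (⟨hv, hvz, e⟩ : v ∈ nb D z) : v ∈ nb D x).2.2
    rw [ts_braid hT hz hv hzv, ts_braid hT hx hv hxv]
    have h1 := nb_conj_congr hconj v h
    rw [ts_inv hT hv] at h1
    exact h1.symm

/-- Twins are congruent modulo the 3-core. -/
theorem twin_mem_pCore [Finite G] {x z : G} (hx : x ∈ D) (hz : z ∈ D) (h : nb D x = nb D z) :
    x * z ∈ pCore 3 G := by
  haveI : Fact (Nat.Prime 3) := ⟨Nat.prime_three⟩
  by_cases hne : x = z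
  · subst hne; rw [ts_mul_self hT hx]; exact one_mem _
  set C : Set G := {v | v ∈ D ∧ nb D v = nb D x} with hC
  set L := Subgroup.closure C with hL
  set K := twinKer hconj with hK
  haveI hKn : K.Normal := twinKer_normal hconj
  -- members of the class normalise it
  have hCcl : ∀ w ∈ C, ∀ v ∈ C, w * v * w⁻¹ ∈ C := by
    intro w hw v hv
    refine ⟨hconj w v hv.1, ?_⟩
    have h1 := nb_conj_congr hconj w (hv.2.trans hw.2.symm)
    rwa [mul_inv_cancel_right, hw.2] at h1
  have hLC : ∀ g ∈ L, ∀ v ∈ C, g * v * g⁻¹ ∈ C := by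
    intro g hg
    induction hg using Subgroup.closure_induction_left with
    | one => intro v hv; simpa using hv
    | mul_left a ha b _ ih =>
      intro v hv
      rw [show a * b * v * (a * b)⁻¹ = a * (b * v * b⁻¹) * a⁻¹ by group]
      exact hCcl a ha _ (ih v hv)
    | inv_mul_cancel a ha b _ ih =>
      intro v hv
      rw [show a⁻¹ * b * v * (a⁻¹ * b)⁻¹ = a⁻¹ * (b * v * b⁻¹) * a⁻¹⁻¹ by group, ts_inv hT ha.1]
      exact hCcl a ha _ (ih v hv)
  have hxC : x ∈ C := ⟨hx, rfl⟩
  set P := Subgroup.closure {g : G | ∃ v ∈ C, ∃ w ∈ C, g = v * w} with hP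
  have hP3 : IsPGroup 3 P := by
    refine ((Base.isPGroup_pCore 3 ↥L).map L.subtype).to_le ((Subgroup.closure_le _).2 ?_)
    rintro _ ⟨v, hv, w, hw, rfl⟩
    set d : ↥L := ⟨v, Subgroup.subset_closure hv⟩
    set e : ↥L := ⟨w, Subgroup.subset_closure hw⟩
    have hd : orderOf d = 2 := by rw [← Subgroup.orderOf_coe]; exact ts_invol hT hv.1
    have hconjC : ∀ a ∈ conjugatesOf d, (a : G) ∈ C := by
      intro a ha
      obtain ⟨g, rfl⟩ := isConj_iff.1 (show IsConj d a from ha)
      exact hLC _ g.2 v hv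
    have hprod : ∀ a ∈ conjugatesOf d, ∀ b ∈ conjugatesOf d, ∃ k : ℕ, orderOf (a * b) = 3 ^ k := by
      intro a ha b hb
      rw [← Subgroup.orderOf_coe]
      push_cast
      by_cases hab : (a : G) = b
      · exact ⟨0, by rw [hab, ts_mul_self hT (hconjC b hb).1, orderOf_one, pow_zero]⟩
      · exact ⟨1, by rw [ts_orderOf_three hT (hconjC a ha).1 (hconjC b hb).1
          (twin_ne_commute hT hconj (hconjC a ha).1 ((hconjC a ha).2.trans (hconjC b hb).2.symm) hab),
          pow_one]⟩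
    have he : e ∈ conjugatesOf d := by
      by_cases hvw : v = w
      · rw [show e = d from Subtype.ext hvw.symm]; exact mem_conjugatesOf_self
      · refine isConj_of_odd_prod hd (by rw [← Subgroup.orderOf_coe]; exact ts_invol hT hw.1) ?_
        rw [← Subgroup.orderOf_coe]
        push_cast
        rw [ts_orderOf_three hT hv.1 hw.1 (twin_ne_commute hT hconj hv.1 (hv.2.trans hw.2.symm) hvw)]
        decide
    exact ⟨d * e, mul_mem_pCore_of_pPower Nat.prime_three (by norm_num) hd hprod mem_conjugatesOf_self he,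
      rfl⟩
  have hPK : P ≤ K := by
    refine (Subgroup.closure_le _).2 ?_
    rintro _ ⟨v, hv, w, hw, rfl⟩
    by_cases hvw : v = w
    · rw [hvw, ts_mul_self hT hw.1]; exact one_mem K
    · exact mul_mem_twinKer hT hconj hv.1 hw.1 (hv.2.trans hw.2.symm) hvw
  have hnorm : ∀ k ∈ K, ∀ g ∈ P, k * g * k⁻¹ ∈ P := by
    intro k hk g hg
    induction hg using Subgroup.closure_induction with
    | mem g hg =>
      obtain ⟨v, hv, w, hw, rfl⟩ := hg
      refine Subgroup.subset_closure ⟨k * v * k⁻¹, ⟨hconj k v hv.1, (hk v hv.1).trans hv.2⟩,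
        k * w * k⁻¹, ⟨hconj k w hw.1, (hk w hw.1).trans hw.2⟩, by group⟩
    | one => simp
    | mul a b _ _ ha hb => simpa [mul_assoc] using mul_mem ha hb
    | inv a _ ha => simpa [mul_assoc] using inv_mem ha
  haveI : (P.subgroupOf K).Normal :=
    ⟨fun n hn k => Subgroup.mem_subgroupOf.2 (hnorm k k.2 _ (Subgroup.mem_subgroupOf.1 hn))⟩
  have hle : P.subgroupOf K ≤ pCore 3 ↥K :=
    Base.le_pCore (hP3.comap_of_injective K.subtype K.subtype_injective)
  have hxz : x * z ∈ P := Subgroup.subset_closure ⟨x, hxC, z, ⟨hz, h.symm⟩, rfl⟩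
  have hm : x * z ∈ (pCore 3 ↥K).map K.subtype :=
    ⟨⟨x * z, hPK hxz⟩, hle (Subgroup.mem_subgroupOf.2 hxz), rfl⟩
  rw [Base.map_pCore_eq_inf K] at hm
  exact hm.1

end CfsgLib.ThreeTransp.LocalThree
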