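import Mathlib
import Cfsg.Agent.Lib.ThreeTransp.LocalThree.Twins
import Cfsg.Agent.Lib.ThreeTransp.FischerCore
import Cfsg.Agent.Lib.Base.MinimalNormal
import Cfsg.Agent.Lib.FT.OddOrderTheorem

/-!
The 3-core of the group generated by the neighbours of a transposition and its congruence classes.
-/

set_option autoImplicit false
set_option linter.style.haveILetI false

namespace CfsgLib.ThreeTransp.LocalThree

open Cfsg CfsgLib.Involutions CfsgLib.ThreeTransp

universe u

variable {G : Type u} [Group G] {D : Set G}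

/-- The 3-core of the group generated by the neighbours of `x`. -/
def lcore (D : Set G) (x : G) : Subgroup G :=
  (pCore 3 ↥(Subgroup.closure (nb D x))).map (Subgroup.closure (nb D x)).subtype

/-- The members commuting with `x` congruent to `a` modulo the core. -/
def lblk (D : Set G) (x a : G) : Set G := {b | b ∈ nb D x ∧ a * b ∈ lcore D x}

theorem lcore_le (x : G) : lcore D x ≤ Subgroup.closure (nb D x) := Subgroup.map_subtype_le _

theorem lcore_pgroup (x : G) : IsPGroup 3 (lcore D x) := (Base.isPGroup_pCore 3 _).map _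

theorem lcore_commute {x g : G} (hg : g ∈ lcore D x) : Commute g x :=
  commute_closure_nb (lcore_le x hg)

theorem lcore_inv_mem {x h n : G} (hh : h ∈ Subgroup.closure (nb D x)) (hn : n ∈ lcore D x) :
    h * n * h⁻¹ ∈ lcore D x := by
  obtain ⟨m, hm, rfl⟩ := hn
  exact ⟨⟨h, hh⟩ * m * ⟨h, hh⟩⁻¹, (inferInstance : (pCore 3 _).Normal).conj_mem m hm _, rfl⟩

theorem le_lcore {x : G} {P : Subgroup G} (hle : P ≤ Subgroup.closure (nb D x)) (hP : IsPGroup 3 P)
    (hn : ∀ h ∈ Subgroup.closure (nb D x), ∀ n ∈ P, h * n * h⁻¹ ∈ P) : P ≤ lcore D x := by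
  set H := Subgroup.closure (nb D x)
  haveI : (P.subgroupOf H).Normal :=
    ⟨fun n hn' k => Subgroup.mem_subgroupOf.2 (hn k k.2 _ (Subgroup.mem_subgroupOf.1 hn'))⟩
  have h1 : P.subgroupOf H ≤ pCore 3 ↥H :=
    Base.le_pCore (hP.comap_of_injective H.subtype H.subtype_injective)
  exact fun g hg => ⟨⟨g, hle hg⟩, h1 (Subgroup.mem_subgroupOf.2 hg), rfl⟩

variable (hT : IsThreeTranspositionSet D) (hconj : ∀ g : G, ∀ d ∈ D, g * d * g⁻¹ ∈ D)
include hT hconj

theorem lcore_conj (g x : G) {n : G} (hn : n ∈ lcore D x) :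
    g * n * g⁻¹ ∈ lcore D (g * x * g⁻¹) := by
  set c : G →* G := (MulAut.conj g).toMonoidHom with hc
  have himg : (Subgroup.closure (nb D x)).map c = Subgroup.closure (nb D (g * x * g⁻¹)) := by
    rw [MonoidHom.map_closure, nb_conj_eq hconj]; rfl
  refine le_lcore (P := (lcore D x).map c) ?_ ((lcore_pgroup x).map c) ?_ ⟨n, hn, rfl⟩
  · rw [← himg]; exact Subgroup.map_mono (lcore_le x)
  · intro h hh m hm
    rw [← himg] at hh
    obtain ⟨h0, hh0, rfl⟩ := hh
    obtain ⟨m0, hm0, rfl⟩ := hm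
    exact ⟨h0 * m0 * h0⁻¹, lcore_inv_mem hh0 hm0, by rw [map_mul, map_mul, map_inv]⟩

theorem lblk_conj (g x a : G) :
    lblk D (g * x * g⁻¹) (g * a * g⁻¹) = (fun b => g * b * g⁻¹) '' lblk D x a := by
  ext v
  constructor
  · rintro ⟨hv, hn⟩
    rw [nb_conj_eq hconj] at hv
    obtain ⟨b, hb, rfl⟩ := hv
    refine ⟨b, ⟨hb, ?_⟩, rfl⟩
    have h1 := lcore_conj hT hconj g⁻¹ _ hn
    simpa [mul_assoc] using h1
  · rintro ⟨b, ⟨hb, hn⟩, rfl⟩
    refine ⟨by rw [nb_conj_eq hconj]; exact ⟨b, hb, rfl⟩, ?_⟩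
    have h1 := lcore_conj hT hconj g x hn
    simpa [mul_assoc] using h1

omit hconj in
theorem lblk_self {x a : G} (ha : a ∈ nb D x) : a ∈ lblk D x a :=
  ⟨ha, by rw [ts_mul_self hT ha.1]; exact one_mem _⟩

omit hconj in
theorem lblk_symm {x a b : G} (ha : a ∈ nb D x) (hb : b ∈ lblk D x a) : a ∈ lblk D x b := by
  refine ⟨ha, ?_⟩
  rw [show b * a = (a * b)⁻¹ by rw [mul_inv_rev, ts_inv hT ha.1, ts_inv hT hb.1.1]]
  exact inv_mem hb.2

omit hconj in
theorem lblk_eq {x a b : G} (ha : a ∈ nb D x) (hb : b ∈ lblk D x a) : lblk D x b = lblk D x a := by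
  have hab : ∀ v : G, a * v = a * b * (b * v) := fun v => by
    rw [mul_assoc a b, ← mul_assoc b b, ts_mul_self hT hb.1.1, one_mul]
  have hba : ∀ v : G, b * v = b * a * (a * v) := fun v => by
    rw [mul_assoc b a, ← mul_assoc a a, ts_mul_self hT ha.1, one_mul]
  ext v
  exact ⟨fun hv => ⟨hv.1, by rw [hab]; exact mul_mem hb.2 hv.2⟩,
    fun hv => ⟨hv.1, by rw [hba]; exact mul_mem (lblk_symm hT ha hb).2 hv.2⟩⟩

omit hconj in
theorem lblk_not_commute {x a b : G} (ha : a ∈ nb D x) (hb : b ∈ lblk D x a) (hne : a ≠ b) :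
    ¬ Commute a b := fun hc => by
  haveI : Fact (Nat.Prime 3) := ⟨Nat.prime_three⟩
  exact hne ((ts_pow_of_pgroup hT (lcore_pgroup x) ha.1 hb.1.1 hb.2).2.1 rfl hc)

omit hconj in
/-- A neighbour of `x` and `a` commutes with the whole block of `a`. -/
theorem lblk_commute {x a a' b : G} (ha : a ∈ nb D x) (ha' : a' ∈ nb D x) (hne : a' ≠ a)
    (hc : Commute a a') (hb : b ∈ lblk D x a) : Commute a' b := by
  by_contra hn
  have haa : a' ∈ lblk D x a := by
    have i' := ts_inv hT ha'.1
    have hA : a' ∈ Subgroup.closure (nb D x) := Subgroup.subset_closure ha'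
    have hB : b ∈ Subgroup.closure (nb D x) := Subgroup.subset_closure hb.1
    -- `a' b a'` is in the block, and conjugation by `b` maps it to `a'`
    have h1 : a * (a' * b * a') ∈ lcore D x := by
      have h := lcore_inv_mem hA hb.2
      rw [i'] at h
      rwa [show a' * (a * b) * a' = a * (a' * b * a') by
        rw [← mul_assoc, ← hc.eq]; group] at h
    have h2 := lcore_inv_mem hB h1
    rw [ts_inv hT hb.1.1] at h2
    have hbb := ts_mul_self hT hb.1.1
    have h3 : b * a * (b * a') ∈ lcore D x := by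
      rwa [ts_braid hT ha'.1 hb.1.1 hn, show b * (a * (b * a' * b)) * b = b * a * (b * a') * (b * b)
        by group, hbb, mul_one] at h2
    have h4 : b * a' ∈ lcore D x := by
      have h := mul_mem (inv_mem (lblk_symm hT ha hb).2) h3
      rwa [inv_mul_cancel_left] at h
    refine ⟨ha', ?_⟩
    have h5 := mul_mem hb.2 h4
    rwa [mul_assoc, ← mul_assoc b b, hbb, one_mul] at h5
  exact lblk_not_commute hT ha haa hne.symm hc

/-- Blocks are orbits of the core, so their sizes are powers of three. -/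
theorem lblk_pow [Finite G] {x a : G} (ha : a ∈ nb D x) : ∃ r, (lblk D x a).ncard = 3 ^ r := by
  haveI : Fact (Nat.Prime 3) := ⟨Nat.prime_three⟩
  set P := lcore D x with hP
  letI : MulAction ↥P G := MulAction.compHom G ((MulAut.conj).comp P.subtype)
  have horb : MulAction.orbit ↥P a = lblk D x a := by
    ext b
    constructor
    · rintro ⟨⟨n, hn⟩, rfl⟩
      show n * a * n⁻¹ ∈ lblk D x a
      refine ⟨⟨hconj n a ha.1, fun e => ha.2.1 ?_, ?_⟩, ?_⟩
      · exact mul_left_cancel (mul_right_cancel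
          (e.trans (show x = n * x * n⁻¹ by rw [(lcore_commute hn).eq, mul_inv_cancel_right])))
      · exact ((lcore_commute hn).symm.mul_right ha.2.2).mul_right (lcore_commute hn).symm.inv_right
      · rw [show a * (n * a * n⁻¹) = a * n * a⁻¹ * n⁻¹ by rw [ts_inv hT ha.1]; group]
        exact mul_mem (lcore_inv_mem (Subgroup.subset_closure ha) hn) (inv_mem hn)
    · intro hb
      by_cases hab : a = b
      · exact hab ▸ MulAction.mem_orbit_self a
      · obtain ⟨k, hk⟩ := exists_zpow_conj_of_odd (ts_invol hT ha.1) (ts_invol hT hb.1.1)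
          (by rw [ts_orderOf_three hT ha.1 hb.1.1 (lblk_not_commute hT ha hb hab)]; decide)
        exact ⟨⟨(a * b) ^ k, zpow_mem hb.2 k⟩, hk⟩
  obtain ⟨r, hr⟩ := IsPGroup.card_orbit (G := ↥P) (lcore_pgroup x) a
  exact ⟨r, by rw [← hr, horb, Nat.card_coe_set_eq]⟩

/-- A block is nontrivial somewhere when the odd core of the neighbours' group is noncentral. -/
theorem exists_big_block [Finite G] {x : G} (hx : x ∈ D)
    (h : ¬ oddCore ↥(Subgroup.closure (nb D x)) ≤ Subgroup.center ↥(Subgroup.closure (nb D x))) :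
    ∃ a ∈ nb D x, ∃ b ∈ lblk D x a, a ≠ b := by
  haveI : Fact (Nat.Prime 3) := ⟨Nat.prime_three⟩
  set H := Subgroup.closure (nb D x) with hH
  set DH : Set ↥H := inClosure (nb D x) with hDH
  have hTH : IsThreeTranspositionSet DH := by
    refine ⟨fun d hd => by rw [← Subgroup.orderOf_coe]; exact hT.1 _ hd.1, fun d hd e he => ?_⟩
    rcases hT.2 _ hd.1 _ he.1 with h1 | h1
    · exact Or.inl (Subtype.ext (by simpa using h1))
    · exact Or.inr (Subtype.ext (by simpa using h1))
  have hcH : ∀ g : ↥H, ∀ d ∈ DH, g * d * g⁻¹ ∈ DH := by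
    intro g d hd
    have hg : Commute (g : G) x := commute_closure_nb g.2
    refine ⟨hconj g _ hd.1, fun e => hd.2.1 ?_, ?_⟩
    · exact mul_left_cancel (mul_right_cancel
        (e.trans (show x = (g : G) * x * (g : G)⁻¹ by rw [hg.eq, mul_inv_cancel_right])))
    · exact (hg.symm.mul_right hd.2.2).mul_right hg.symm.inv_right
  have hgenH : Subgroup.closure DH = ⊤ := Subgroup.closure_closure_coe_preimage
  by_contra hcon
  push Not at hcon
  -- then every odd core is central
  have hq : ∀ q : ℕ, q.Prime → q ≠ 2 → pCore q ↥H ≤ Subgroup.center ↥H := by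
    intro q hq hq2 n hn
    haveI : Fact q.Prime := ⟨hq⟩
    have hfix : ∀ d ∈ DH, n * d = d * n := by
      intro d hd
      have hd' := hcH n d hd
      have hmem : d * (n * d * n⁻¹) ∈ pCore q ↥H := ts_conj_prod_mem hTH hd hn
      have heq : d = n * d * n⁻¹ := by
        rcases Nat.lt_or_ge q 4 with h4 | h4
        · have hq3 : q = 3 := by have := hq.two_le; omega
          subst hq3
          exact Subtype.ext (hcon _ hd _ ⟨hd', ⟨d * (n * d * n⁻¹), hmem, by simp⟩⟩)
        · exact (ts_pow_of_pgroup hTH (Base.isPGroup_pCore q _) hd hd' hmem).2.2 (by omega)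
      conv_rhs => rw [heq]
      group
    rw [Subgroup.mem_center_iff]
    intro g
    have hle : Subgroup.closure DH ≤ Subgroup.centralizer ({n} : Set ↥H) :=
      (Subgroup.closure_le _).2 fun d hd => Subgroup.mem_centralizer_singleton_iff.2 (hfix d hd).symm
    exact Subgroup.mem_centralizer_singleton_iff.1 (hle (hgenH ▸ Subgroup.mem_top g))
  apply h
  set O := oddCore ↥H with hO
  haveI hOn : O.Normal := pPrimeCore_normal 2 ↥H
  haveI : Group.IsSolvable ↥O := CfsgLib.FT.isSolvable_of_odd (Base.odd_card_oddCore ↥H)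
  have hF : (fittingSubgroup ↥O).map O.subtype ≤ Subgroup.center ↥H := by
    rw [Base.fittingSubgroup_eq_iSup_pCore, Subgroup.map_iSup]
    refine iSup_le fun q => ?_
    haveI := Fact.mk q.2
    by_cases hq2 : (q : ℕ) = 2
    · have hbot : pCore (q : ℕ) ↥O = ⊥ := by
        rw [hq2]
        haveI : Fact (Nat.Prime 2) := ⟨Nat.prime_two⟩
        rw [← Subgroup.card_eq_one]
        obtain ⟨k, hk⟩ := IsPGroup.iff_card.1 (Base.isPGroup_pCore 2 ↥O)
        have hd := Subgroup.card_subgroup_dvd_card (pCore 2 ↥O)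
        rw [hk] at hd ⊢
        rcases k with _ | k
        · rfl
        · exact absurd ((dvd_pow_self 2 (by omega)).trans hd)
            (Base.odd_card_oddCore ↥H).not_two_dvd_nat
      rw [hbot, Subgroup.map_bot]; exact bot_le
    · rw [Base.map_pCore_eq_inf O]
      exact inf_le_left.trans (hq q q.2 hq2)
  intro g hg
  have hcen : (⟨g, hg⟩ : ↥O) ∈ Subgroup.centralizer (fittingSubgroup ↥O : Set ↥O) := by
    rw [Subgroup.mem_centralizer_iff]
    intro f hf
    exact Subtype.ext (Subgroup.mem_center_iff.1 (hF ⟨f, hf, rfl⟩) g).symm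
  exact hF ⟨_, Base.centralizer_fittingSubgroup_le hcen, rfl⟩

end CfsgLib.ThreeTransp.LocalThree
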