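import Mathlib
import Cfsg.Agent.Lib.ThreeTransp.LocalThree.Blocks
import Cfsg.Agent.Lib.ThreeTransp.FischerRankThree

/-!
For a non-commuting pair `a`, `b`: the transpositions in whose local group `a`, `b` are congruent.
-/

set_option autoImplicit false
set_option linter.style.haveILetI false

namespace CfsgLib.ThreeTransp.LocalThree

open Cfsg CfsgLib.Involutions CfsgLib.ThreeTransp

universe u

variable {G : Type u} [Group G] {D : Set G}

/-- The members `x` with `b` in the block of `a` seen from `x`. -/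
def xset (D : Set G) (a b : G) : Set G := {x | x ∈ D ∧ a ∈ nb D x ∧ b ∈ lblk D x a}

theorem nb_symm {x a : G} (hx : x ∈ D) (ha : a ∈ nb D x) : x ∈ nb D a :=
  ⟨hx, ha.2.1.symm, ha.2.2.symm⟩

theorem xset_subset_both {a b x : G} (hx : x ∈ xset D a b) : x ∈ both D a b :=
  ⟨hx.1, hx.2.1.2.2.symm, hx.2.2.1.2.2.symm⟩

variable (hT : IsThreeTranspositionSet D) (hconj : ∀ g : G, ∀ d ∈ D, g * d * g⁻¹ ∈ D)
include hT hconj

omit hconj in
/-- The braid form of the commuting of two conjugates. -/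
theorem conj_commute {p r v : G} (hp : p ∈ D) (hr : r ∈ D) (hv : v ∈ D) (hpr : Commute p r)
    (hpv : ¬ Commute p v) (hrv : ¬ Commute r v) : Commute (p * v * p) (r * v * r) := by
  rw [ts_braid hT hp hv hpv, ts_braid hT hr hv hrv]
  have h := (commute_conj_iff v).2 hpr
  rwa [ts_inv hT hv] at h

omit hconj in
theorem cnj_iff {d p r : G} (hd : d ∈ D) :
    Commute (d * p * d) (d * r * d) ↔ Commute p r := by
  have h := commute_conj_iff (x := p) (y := r) d
  rwa [ts_inv hT hd] at h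

omit hconj in
theorem cnj_self {d p : G} (hd : d ∈ D) (h : Commute d p) : d * p * d = p := by
  rw [h.eq, mul_assoc, ts_mul_self hT hd, mul_one]

omit hconj in
theorem cnj_twice {d p : G} (hd : d ∈ D) : d * (d * p * d) * d = p := by
  simp only [mul_assoc, ts_mul_self hT hd, mul_one]
  rw [← mul_assoc, ts_mul_self hT hd, one_mul]

theorem xset_of_not_commute {a b x z : G} (hx : x ∈ xset D a b) (hz : z ∈ both D a b)
    (hn : ¬ Commute x z) : z ∈ xset D a b := by
  set g := z * x * z with hg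
  have hgi : g⁻¹ = g := by
    rw [hg, mul_inv_rev, mul_inv_rev, ts_inv hT hx.1, ts_inv hT hz.1, mul_assoc]
  have hga : Commute g a :=
    (hz.2.1.symm.mul_left hx.2.1.2.2).mul_left hz.2.1.symm
  have hgb : Commute g b :=
    (hz.2.2.symm.mul_left hx.2.2.1.2.2).mul_left hz.2.2.symm
  have he : g * x * g⁻¹ = z := by
    rw [hgi, hg, ← ts_braid hT hx.1 hz.1 hn]
    calc x * z * x * x * (x * z * x) = x * z * (x * x) * x * z * x := by group
      _ = x * z * x * z * x := by rw [ts_mul_self hT hx.1, mul_one]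
      _ = (x * z * x) * z * x := by group
      _ = z * x * (z * z) * x := by rw [ts_braid hT hx.1 hz.1 hn]; group
      _ = z := by rw [ts_mul_self hT hz.1, mul_one, mul_assoc, ts_mul_self hT hx.1, mul_one]
  have ea : g * a * g⁻¹ = a := by rw [hga.eq, mul_inv_cancel_right]
  have eb : g * b * g⁻¹ = b := by rw [hgb.eq, mul_inv_cancel_right]
  have hb : b ∈ lblk D z a := by
    rw [← he, ← ea, lblk_conj hT hconj]
    exact ⟨b, hx.2.2, eb⟩
  have ha : a ∈ nb D z := by
    rw [← he, nb_conj_eq hconj]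
    exact ⟨a, hx.2.1, ea⟩
  exact ⟨hz.1, ha, hb⟩

/-- The members of the exchange set do not commute. -/
theorem xset_coclique {a b x x' v : G} (ha : a ∈ D) (hb : b ∈ D) (hab : ¬ Commute a b)
    (hx : x ∈ xset D a b) (hx' : x' ∈ xset D a b) (hne : x ≠ x') (hv : v ∈ nb D a)
    (hvb : ¬ Commute b v) : ¬ Commute x x' := by
  intro hxx
  have hoff : ∀ {y : G}, y ∈ xset D a b → ¬ Commute y v := fun {y} hy hc => by
    have hne' : v ≠ y := fun e => hvb (e ▸ hy.2.2.1.2.2.symm)
    exact hvb (lblk_commute hT hy.2.1 ⟨hv.1, hne', hc⟩ hv.2.1 hv.2.2 hy.2.2).symm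
  have hxv := hoff hx
  have hx'v := hoff hx'
  have hbv : ¬ Commute b v := hvb
  have hbx : Commute b x := hx.2.2.1.2.2.symm
  have hbx' : Commute b x' := hx'.2.2.1.2.2.symm
  have cnjD : ∀ {d e : G}, d ∈ D → e ∈ D → d * e * d ∈ D := fun {d e} hd he => by
    have := hconj d e he
    rwa [ts_inv hT hd] at this
  set w := b * v * b with hw
  have hwD : w ∈ D := cnjD hb hv.1
  set c := x' * (x * w * x) * x' with hc
  have hcD : c ∈ D := cnjD hx'.1 (cnjD hx.1 hwD)
  set x4 := v * c * v with hx4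
  have hwvv : v * b * v = w := (ts_braid hT hb hv.1 hbv).symm
  have hwx : ¬ Commute w x := fun h => hxv (by
    have h1 := (cnj_iff hT hb).2 h
    rw [hw, cnj_twice hT hb, cnj_self hT hb hbx] at h1
    exact h1.symm)
  have hwx' : ¬ Commute w x' := fun h => hx'v (by
    have h1 := (cnj_iff hT hb).2 h
    rw [hw, cnj_twice hT hb, cnj_self hT hb hbx'] at h1
    exact h1.symm)
  have h4a : ¬ Commute x4 a := fun h => by
    have hwa : Commute w a := by
      have h1 := (cnj_iff hT hv.1).2 h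
      rw [hx4, cnj_twice hT hv.1, cnj_self hT hv.1 hv.2.2.symm] at h1
      have h2 := (cnj_iff hT hx'.1).2 h1
      rw [hc, cnj_twice hT hx'.1, cnj_self hT hx'.1 hx'.2.1.2.2] at h2
      have h3 := (cnj_iff hT hx.1).2 h2
      rwa [cnj_twice hT hx.1, cnj_self hT hx.1 hx.2.1.2.2] at h3
    have h4 := (cnj_iff hT hb).2 hwa
    rw [hw, cnj_twice hT hb, ← ts_braid hT ha hb hab] at h4
    have h5 := (cnj_iff hT ha).2 h4
    rw [cnj_twice hT ha, cnj_self hT ha hv.2.2] at h5
    exact hvb h5.symm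
  have h4x : Commute x4 x := by
    refine (cnj_iff hT hv.1).1 ?_
    rw [hx4, cnj_twice hT hv.1, ← ts_braid hT hx.1 hv.1 hxv]
    refine (cnj_iff hT hx.1).1 ?_
    rw [cnj_twice hT hx.1]
    have e : x * c * x = x' * w * x' := by
      have e1 : x * (x' * (x * w * x) * x') * x = (x * x') * (x * w * x) * (x' * x) := by group
      rw [hc, e1, hxx.eq]
      calc x' * x * (x * w * x) * (x' * x) = x' * (x * x) * w * x * (x' * x) := by group
        _ = x' * w * (x * x') * x := by rw [ts_mul_self hT hx.1]; group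
        _ = x' * w * x' * (x * x) := by rw [hxx.eq]; group
        _ = x' * w * x' := by rw [ts_mul_self hT hx.1, mul_one]
    rw [e]
    refine (cnj_iff hT hx'.1).1 ?_
    rw [cnj_twice hT hx'.1]
    exact conj_commute hT hb hx'.1 hv.1 hbx' hbv hx'v
  have h4b : Commute x4 b := by
    refine (cnj_iff hT hv.1).1 ?_
    rw [hx4, cnj_twice hT hv.1, hwvv]
    refine (cnj_iff hT hx'.1).1 ?_
    rw [hc, cnj_twice hT hx'.1]
    exact conj_commute hT hx.1 hx'.1 hwD hxx (fun e => hwx e.symm) (fun e => hwx' e.symm)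
  have hne4x : x4 ≠ x := fun e => h4a (e ▸ hx.2.1.2.2)
  have hne4b : x4 ≠ b := fun e => by
    have h1 : c = w := by rw [← hwvv, ← e, hx4, cnj_twice hT hv.1]
    have h2 : x * w * x = x' * w * x' := by
      have h3 := congrArg (fun t => x' * t * x') h1
      simpa only [hc, cnj_twice hT hx'.1] using h3
    rw [ts_braid hT hx.1 hwD (fun e => hwx e.symm), ts_braid hT hx'.1 hwD (fun e => hwx' e.symm)] at h2
    exact hne (mul_left_cancel (mul_right_cancel h2))
  exact h4a (lblk_commute hT hx.2.2.1 ⟨cnjD hv.1 hcD, hne4x, h4x.symm⟩ hne4b h4b.symm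
    (lblk_symm hT hx.2.1 hx.2.2))

variable {a b : G} (ha : a ∈ D) (hb : b ∈ D) (hab : ¬ Commute a b)
  (hpriv : ∃ v ∈ nb D a, ¬ Commute b v)
include ha hb hab hpriv

omit hb in
theorem both_ne {z : G} (hz : z ∈ both D a b) : z ≠ a ∧ z ≠ b := by
  exact ⟨fun e => hab (e ▸ hz.2.2).symm, fun e => hab (e ▸ hz.2.1)⟩

theorem inter_eq {x : G} (hx : x ∈ xset D a b) : nb D x ∩ nb D a = both D a b \ xset D a b := by
  obtain ⟨v, hv, hvb⟩ := hpriv
  ext y
  constructor
  · rintro ⟨hyx, hya⟩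
    refine ⟨⟨hyx.1, hya.2.2, ?_⟩, fun hy => ?_⟩
    · exact (lblk_commute hT hx.2.1 hyx hya.2.1 hya.2.2 hx.2.2).symm
    · exact xset_coclique hT hconj ha hb hab hx hy hyx.2.1.symm hv hvb hyx.2.2
  · rintro ⟨hy, hyX⟩
    have hne := both_ne hT hconj ha hab ⟨v, hv, hvb⟩ hy
    have hxy : Commute x y := by_contra fun hn => hyX (xset_of_not_commute hT hconj hx hy hn)
    exact ⟨⟨hy.1, fun e => hyX (e ▸ hx), hxy⟩, ⟨hy.1, hne.1, hy.2.1⟩⟩

theorem both_card [Finite G] {x : G} (hx : x ∈ xset D a b) :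
    (both D a b).ncard = (nb D x ∩ nb D a).ncard + (xset D a b).ncard := by
  rw [inter_eq hT hconj ha hb hab hpriv hx,
    Set.ncard_sdiff_add_ncard_of_subset (fun y hy => xset_subset_both hy) (Set.toFinite _)]

/-- The exchange set lies in one block of `a`. -/
theorem xset_mem_block [Finite G] {x z : G} (hx : x ∈ xset D a b) (hz : z ∈ xset D a b) :
    z ∈ lblk D a x := by
  refine ⟨nb_symm hz.1 hz.2.1, ?_⟩
  set H := Subgroup.closure (nb D a) with hH
  set DH : Set ↥H := inClosure (nb D a) with hDH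
  have hTH : IsThreeTranspositionSet DH := by
    refine ⟨fun d hd => by rw [← Subgroup.orderOf_coe]; exact hT.1 _ hd.1, fun d hd e he => ?_⟩
    rcases hT.2 _ hd.1 _ he.1 with h1 | h1
    · exact Or.inl (Subtype.ext (by simpa using h1))
    · exact Or.inr (Subtype.ext (by simpa using h1))
  have hcH : ∀ g : ↥H, ∀ d ∈ DH, g * d * g⁻¹ ∈ DH := by
    intro g d hd
    have hg : Commute (g : G) a := commute_closure_nb g.2
    refine ⟨hconj g _ hd.1, fun e => hd.2.1 ?_, ?_⟩
    · exact mul_left_cancel (mul_right_cancel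
        (e.trans (show a = (g : G) * a * (g : G)⁻¹ by rw [hg.eq, mul_inv_cancel_right])))
    · exact (hg.symm.mul_right hd.2.2).mul_right hg.symm.inv_right
  set x₀ : ↥H := ⟨x, Subgroup.subset_closure (nb_symm hx.1 hx.2.1)⟩
  set z₀ : ↥H := ⟨z, Subgroup.subset_closure (nb_symm hz.1 hz.2.1)⟩
  have hnb : ∀ y : ↥H, ∀ w : G, w ∈ xset D a b → ∀ hw : w ∈ H,
      (y ∈ nb DH ⟨w, hw⟩ ↔ (y : G) ∈ both D a b \ xset D a b) := by
    intro y w hwX hw
    rw [← inter_eq hT hconj ha hb hab hpriv hwX]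
    constructor
    · rintro ⟨hy, hne, hc⟩
      exact ⟨⟨hy.1, fun e => hne (Subtype.ext e), congrArg Subtype.val hc⟩, hy⟩
    · rintro ⟨hy, hya⟩
      exact ⟨hya, fun e => hy.2.1 (congrArg Subtype.val e), Subtype.ext hy.2.2⟩
  have htw : nb DH x₀ = nb DH z₀ := by
    ext y
    rw [hnb y x hx, hnb y z hz]
  exact ⟨x₀ * z₀, twin_mem_pCore hTH hcH (nb_symm hx.1 hx.2.1) (nb_symm hz.1 hz.2.1) htw, rfl⟩

theorem xset_card_le [Finite G] {x : G} (hx : x ∈ xset D a b) :
    (xset D a b).ncard ≤ (lblk D a x).ncard :=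
  Set.ncard_le_ncard (fun _ hz => xset_mem_block hT hconj ha hb hab hpriv hx hz) (Set.toFinite _)

/-- The exchange set has a power of three many elements. -/
theorem xset_pow [Finite G] (hne : (xset D a b).Nonempty) : ∃ i, (xset D a b).ncard = 3 ^ i := by
  haveI : Fact (Nat.Prime 3) := ⟨Nat.prime_three⟩
  obtain ⟨x, hx⟩ := hne
  obtain ⟨v, hv, hvb⟩ := hpriv
  set P := lcore D a ⊓ Subgroup.centralizer ({b} : Set G) with hP
  letI : MulAction ↥P G := MulAction.compHom G ((MulAut.conj).comp P.subtype)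
  have horb : MulAction.orbit ↥P x = xset D a b := by
    ext z
    constructor
    · rintro ⟨⟨n, hn, hnb⟩, rfl⟩
      show n * x * n⁻¹ ∈ xset D a b
      have ea : n * a * n⁻¹ = a := by rw [(lcore_commute hn).eq, mul_inv_cancel_right]
      have eb : n * b * n⁻¹ = b := by
        rw [(Subgroup.mem_centralizer_singleton_iff.1 hnb : n * b = b * n), mul_inv_cancel_right]
      refine ⟨hconj n x hx.1, ?_, ?_⟩
      · rw [nb_conj_eq hconj]; exact ⟨a, hx.2.1, ea⟩
      · rw [← ea, lblk_conj hT hconj]; exact ⟨b, hx.2.2, eb⟩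
    · intro hz
      by_cases hxz : x = z
      · exact hxz ▸ MulAction.mem_orbit_self x
      · have hn := xset_coclique hT hconj ha hb hab hx hz hxz hv hvb
        obtain ⟨k, hk⟩ := exists_zpow_conj_of_odd (ts_invol hT hx.1) (ts_invol hT hz.1)
          (by rw [ts_orderOf_three hT hx.1 hz.1 hn]; decide)
        refine ⟨⟨(x * z) ^ k, zpow_mem (Subgroup.mem_inf.2 ⟨(xset_mem_block hT hconj ha hb hab ⟨v, hv, hvb⟩ hx hz).2,
          Subgroup.mem_centralizer_singleton_iff.2 ?_⟩) k⟩, hk⟩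
        exact ((hx.2.2.1.2.2).mul_left hz.2.2.1.2.2).eq
  obtain ⟨i, hi⟩ := IsPGroup.card_orbit (G := ↥P) ((lcore_pgroup a).to_le inf_le_left) x
  exact ⟨i, by rw [← hi, horb, Nat.card_coe_set_eq]⟩

end CfsgLib.ThreeTransp.LocalThree
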