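import Mathlib

/-!
Divisibility conditions from the eigenspaces of a strongly regular graph and a permutation of
order one, two or three preserving it.
-/

set_option autoImplicit false

namespace CfsgLib.ThreeTransp.LocalThree

open Matrix

variable {ι : Type*} [Fintype ι] [DecidableEq ι]

/-- The trace of an idempotent real matrix is a natural number. -/
theorem trace_idem_nat (P : Matrix ι ι ℝ) (hP : P * P = P) : ∃ n : ℕ, Matrix.trace P = n := by
  have hi : IsIdempotentElem (Matrix.toLin' P) := by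
    show Matrix.toLin' P * Matrix.toLin' P = Matrix.toLin' P
    rw [Module.End.mul_eq_comp, ← Matrix.toLin'_mul, hP]
  refine ⟨Module.finrank ℝ (Matrix.toLin' P).range, ?_⟩
  rw [← Matrix.trace_toLin'_eq]
  exact LinearMap.IsProj.trace (LinearMap.IsIdempotentElem.isProj_range _ hi)

/-- The all-one matrix. -/
def allOne (ι : Type*) : Matrix ι ι ℝ := fun _ _ => 1

theorem allOne_mul_allOne : allOne ι * allOne ι = (Fintype.card ι : ℝ) • allOne ι := by
  ext i j
  simp [Matrix.mul_apply, allOne]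

theorem trace_mul_perm (X : Matrix ι ι ℝ) (σ : Equiv.Perm ι) :
    Matrix.trace (σ.permMatrix ℝ * X) = ∑ i, X (σ i) i := by
  simp [Matrix.trace, Equiv.Perm.permMatrix, PEquiv.toMatrix_toPEquiv_mul]

/-- The matrix with eigenvalues `± δ` on the complement of the constants. -/
noncomputable def srgM (A : Matrix ι ι ℝ) (k u : ℝ) : Matrix ι ι ℝ :=
  (2 : ℝ) • A + u • (1 : Matrix ι ι ℝ) - ((2 * k + u) / Fintype.card ι) • allOne ι

/-- The trace of the matrix against a permutation. -/
noncomputable def srgT (A : Matrix ι ι ℝ) (k u : ℝ) (σ : Equiv.Perm ι) : ℝ :=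
  Matrix.trace (σ.permMatrix ℝ * srgM A k u)

variable {A : Matrix ι ι ℝ} {k lam mu : ℝ}

theorem srgT_eq (σ : Equiv.Perm ι) [Nonempty ι] (hA : ∀ i, A (σ i) i = 0) :
    srgT A k (mu - lam) σ =
      (mu - lam) * (Finset.univ.filter fun i => σ i = i).card - (2 * k + (mu - lam)) := by
  have hn : (Fintype.card ι : ℝ) ≠ 0 := Nat.cast_ne_zero.2 Fintype.card_ne_zero
  rw [srgT, trace_mul_perm]
  simp only [srgM, Matrix.sub_apply, Matrix.add_apply, Matrix.smul_apply, hA, smul_eq_mul, mul_zero,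
    zero_add, allOne, mul_one, Matrix.one_apply]
  rw [Finset.sum_sub_distrib, Finset.sum_const, Finset.card_univ, nsmul_eq_mul, ← Finset.mul_sum,
    Finset.sum_boole, mul_div_cancel₀ _ hn]

/-- The conditions. -/
theorem srg_conditions [Nonempty ι] (hsym : Aᵀ = A) (hrow : ∀ i, ∑ j, A i j = k)
    (hsq : A * A = k • (1 : Matrix ι ι ℝ) + lam • A + mu • (allOne ι - 1 - A))
    (hΔ : 0 < (mu - lam) ^ 2 + 4 * (k - mu)) :
    ∀ σ : Equiv.Perm ι, (∀ i j, A (σ i) (σ j) = A i j) →
      (σ * σ = 1 → ∃ z : ℤ, srgT A k (mu - lam) σ =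
        Real.sqrt ((mu - lam) ^ 2 + 4 * (k - mu)) * z) ∧
      (σ * σ * σ = 1 → ∃ z : ℤ, 2 * srgT A k (mu - lam) σ =
        Real.sqrt ((mu - lam) ^ 2 + 4 * (k - mu)) * z) := by
  set u := mu - lam with hu
  set Δ := u ^ 2 + 4 * (k - mu) with hD
  set n : ℝ := (Fintype.card ι : ℝ) with hn
  have hn0 : n ≠ 0 := Nat.cast_ne_zero.2 Fintype.card_ne_zero
  set J := allOne ι with hJ
  have hJA : J * A = k • J := by
    ext i j
    have h1 : ∑ l, A l j = k := by
      rw [← hrow j]
      exact Finset.sum_congr rfl fun l _ => by rw [← hsym, Matrix.transpose_apply, hsym]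
    simp [Matrix.mul_apply, hJ, allOne, h1]
  have hAJ : A * J = k • J := by
    ext i j
    simp [Matrix.mul_apply, hJ, allOne, hrow i]
  have hJJ : J * J = n • J := allOne_mul_allOne
  have hid : k * k + k * (mu - lam) - mu * n = k - mu := by
    obtain ⟨i⟩ := (inferInstance : Nonempty ι)
    have h1 := congrArg (fun X : Matrix ι ι ℝ => ∑ j, X i j) hsq
    have hl : ∑ j, (A * A) i j = k * k := by
      simp only [Matrix.mul_apply]
      rw [Finset.sum_comm]
      simp only [← Finset.mul_sum, hrow]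
      rw [← Finset.sum_mul, hrow]
    have hr : ∑ j, (k • (1 : Matrix ι ι ℝ) + lam • A + mu • (J - 1 - A)) i j =
        k + lam * k + mu * (n - 1 - k) := by
      simp only [Matrix.add_apply, Matrix.smul_apply, Matrix.sub_apply, smul_eq_mul, hJ, allOne]
      rw [Finset.sum_add_distrib, Finset.sum_add_distrib, ← Finset.mul_sum, ← Finset.mul_sum,
        ← Finset.mul_sum, Finset.sum_sub_distrib, Finset.sum_sub_distrib, hrow]
      simp [Matrix.one_apply, hn]
    have h2 : k * k = k + lam * k + mu * (n - 1 - k) := hl ▸ hr ▸ h1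
    linarith
  set M := srgM A k u with hM
  have hMd : M = (2 : ℝ) • A + u • (1 : Matrix ι ι ℝ) - ((2 * k + u) / n) • J := rfl
  have hMJ : M * J = 0 := by
    rw [hMd]
    simp only [Matrix.sub_mul, Matrix.add_mul, Matrix.smul_mul, hAJ, hJJ, Matrix.one_mul, smul_smul]
    rw [← add_smul, ← sub_smul, div_mul_cancel₀ _ hn0, sub_eq_zero.2 rfl, zero_smul]
  have hJM : J * M = 0 := by
    rw [hMd]
    simp only [Matrix.mul_sub, Matrix.mul_add, Matrix.mul_smul, hJA, hJJ, Matrix.mul_one, smul_smul]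
    rw [← add_smul, ← sub_smul, div_mul_cancel₀ _ hn0, sub_eq_zero.2 rfl, zero_smul]
  have hMM : M * M = Δ • (1 - (1 / n) • J) := by
    have e : M * M = M * ((2 : ℝ) • A + u • (1 : Matrix ι ι ℝ)) := by
      conv_lhs => rhs; rw [hMd]
      rw [Matrix.mul_sub, Matrix.mul_smul, hMJ, smul_zero, sub_zero]
    have hΔ' : Δ / n = (2 * k + u) ^ 2 / n - 4 * mu := by
      field_simp
      rw [hD, hu]
      linear_combination (-4 : ℝ) * hid
    rw [e, hMd]
    simp only [Matrix.sub_mul, Matrix.add_mul, Matrix.mul_add, Matrix.smul_mul, Matrix.mul_smul,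
      Matrix.one_mul, Matrix.mul_one, hJA, hsq]
    ext i j
    simp only [Matrix.sub_apply, Matrix.add_apply, Matrix.smul_apply, smul_eq_mul]
    have hJ1 : J i j = 1 := rfl
    rw [hJ1]
    have : Δ * (1 / n * 1) = (2 * k + u) / n * (2 * k + u) - 4 * mu := by
      rw [mul_one, mul_one_div, hΔ']; ring
    rw [mul_sub Δ, this, hD, hu]
    ring
  set δ := Real.sqrt Δ with hδ
  have hδ0 : δ ≠ 0 := (Real.sqrt_pos.2 hΔ).ne'
  have hδ2 : δ * δ = Δ := Real.mul_self_sqrt hΔ.le
  set I0 : Matrix ι ι ℝ := 1 - (1 / n) • J with hI0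
  have hI00 : I0 * I0 = I0 := by
    rw [hI0, Matrix.sub_mul, Matrix.one_mul, Matrix.smul_mul, Matrix.mul_sub, Matrix.mul_one,
      Matrix.mul_smul, hJJ, smul_smul, one_div_mul_cancel hn0, one_smul, sub_self, smul_zero,
      sub_zero]
  set E : Matrix ι ι ℝ := (1 / 2 : ℝ) • (I0 + (1 / δ) • M) with hE
  have hEE : E * E = E := by
    have h1 : I0 * M = M := by
      rw [hI0, Matrix.sub_mul, Matrix.one_mul, Matrix.smul_mul, hJM, smul_zero, sub_zero]
    have h2 : M * I0 = M := by
      rw [hI0, Matrix.mul_sub, Matrix.mul_one, Matrix.mul_smul, hMJ, smul_zero, sub_zero]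
    rw [hE]
    simp only [Matrix.smul_mul, Matrix.mul_smul, Matrix.add_mul, Matrix.mul_add, h1, h2, hI00, hMM,
      ← hI0, smul_smul]
    ext i j
    simp only [Matrix.add_apply, Matrix.smul_apply, smul_eq_mul]
    field_simp
    rw [← hδ2]
    ring
  have hEsym : Eᵀ = E := by
    have hJt : Jᵀ = J := by ext i j; rfl
    rw [hE, hI0, hMd]
    simp only [Matrix.transpose_smul, Matrix.transpose_add, Matrix.transpose_sub,
      Matrix.transpose_one, hsym, hJt]
  intro σ hσA
  set P : Matrix ι ι ℝ := σ.permMatrix ℝ with hP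
  have hcomm : ∀ X : Matrix ι ι ℝ, (∀ i j, X (σ i) (σ j) = X i j) → P * X = X * P := by
    intro X hX
    ext i j
    rw [hP, Equiv.Perm.permMatrix, PEquiv.toMatrix_toPEquiv_mul, PEquiv.mul_toMatrix_toPEquiv]
    simp only [Matrix.submatrix_apply, id]
    conv_lhs => rw [← σ.apply_symm_apply j]
    exact hX i (σ.symm j)
  have hPE : P * E = E * P := by
    refine hcomm E fun i j => ?_
    simp only [hE, hI0, hMd, Matrix.smul_apply, Matrix.add_apply, Matrix.sub_apply, smul_eq_mul,
      hσA, hJ, allOne, Matrix.one_apply, σ.injective.eq_iff]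
  set fixn : ℕ := (Finset.univ.filter fun i => σ i = i).card with hfixn
  have hPEtr : Matrix.trace (P * E) = (1 / 2) * (((fixn : ℝ) - 1) + srgT A k u σ / δ) := by
    rw [hE, Matrix.mul_smul, Matrix.trace_smul, Matrix.mul_add, Matrix.trace_add, Matrix.mul_smul,
      Matrix.trace_smul, smul_eq_mul, smul_eq_mul]
    have : Matrix.trace (P * I0) = (fixn : ℝ) - 1 := by
      rw [hP, trace_mul_perm]
      simp only [hI0, Matrix.sub_apply, Matrix.smul_apply, smul_eq_mul, hJ, allOne, mul_one,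
        Matrix.one_apply]
      rw [Finset.sum_sub_distrib, Finset.sum_boole, Finset.sum_const, Finset.card_univ,
        nsmul_eq_mul, ← hn, mul_one_div_cancel hn0]
    rw [this]
    show (1 / 2) * (((fixn : ℝ) - 1) + (1 / δ) * srgT A k u σ) = _
    ring
  obtain ⟨f, hf⟩ := trace_idem_nat E hEE
  constructor
  · intro h2
    have hPP : P * P = 1 := by
      rw [hP, ← Matrix.permMatrix_mul, h2, Matrix.permMatrix_one]
    have hQ : ((1 / 2 : ℝ) • ((1 + P) * E)) * ((1 / 2 : ℝ) • ((1 + P) * E)) =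
        (1 / 2 : ℝ) • ((1 + P) * E) := by
      rw [Matrix.smul_mul, Matrix.mul_smul, smul_smul, Matrix.mul_assoc (1 + P),
        ← Matrix.mul_assoc E, show E * (1 + P) = (1 + P) * E by
          rw [Matrix.mul_add, Matrix.add_mul, Matrix.mul_one, Matrix.one_mul, hPE],
        Matrix.mul_assoc (1 + P) E E, hEE, ← Matrix.mul_assoc,
        show (1 + P) * (1 + P) = (2 : ℝ) • (1 + P) by
          rw [Matrix.add_mul, Matrix.mul_add, Matrix.mul_add, hPP, Matrix.one_mul, Matrix.one_mul,
            Matrix.mul_one, two_smul]; abel,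
        Matrix.smul_mul, smul_smul]
      norm_num
    obtain ⟨g, hg⟩ := trace_idem_nat _ hQ
    rw [Matrix.trace_smul, Matrix.add_mul, Matrix.one_mul, Matrix.trace_add, hf, hPEtr,
      smul_eq_mul] at hg
    refine ⟨2 * (2 * (g : ℤ) - f) - ((fixn : ℤ) - 1), ?_⟩
    field_simp at hg
    push_cast
    linarith [hg]
  · intro h3
    have hPPP : P * P * P = 1 := by
      rw [hP, ← Matrix.permMatrix_mul, ← Matrix.permMatrix_mul, ← mul_assoc, h3, Matrix.permMatrix_one]
    have hPt : Matrix.trace (P * P * E) = Matrix.trace (P * E) := by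
      have e : P * P = Pᵀ := by
        have hinv : σ⁻¹ = σ * σ := inv_eq_of_mul_eq_one_right (by rw [← mul_assoc]; exact h3)
        rw [hP, Matrix.transpose_permMatrix, hinv, Matrix.permMatrix_mul]
      rw [e]
      calc Matrix.trace (Pᵀ * E) = Matrix.trace ((E * P)ᵀ) := by
            rw [Matrix.transpose_mul, hEsym]
        _ = Matrix.trace (P * E) := by rw [Matrix.trace_transpose, Matrix.trace_mul_comm]
    set Q0 := 1 + P + P * P with hQ0
    have hQE : E * Q0 = Q0 * E := by
      rw [hQ0]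
      simp only [Matrix.mul_add, Matrix.add_mul, Matrix.mul_one, Matrix.one_mul]
      rw [Matrix.mul_assoc P P E, hPE, ← Matrix.mul_assoc P E P, hPE, Matrix.mul_assoc E P P]
    have hQQ : Q0 * Q0 = (3 : ℝ) • Q0 := by
      have h4 : P * (P * P) = 1 := by rw [← Matrix.mul_assoc, hPPP]
      have h5 : P * P * (P * P) = P := by
        rw [← Matrix.mul_assoc, hPPP, Matrix.one_mul]
      rw [hQ0, Matrix.add_mul, Matrix.add_mul, Matrix.mul_add, Matrix.mul_add, Matrix.mul_add,
        Matrix.mul_add, Matrix.mul_add, Matrix.mul_add, Matrix.one_mul, Matrix.one_mul,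
        Matrix.one_mul, Matrix.mul_one, Matrix.mul_one, h4, h5, hPPP]
      rw [show (3 : ℝ) = 1 + 1 + 1 by norm_num, add_smul, add_smul, one_smul]
      abel
    have hQ : ((1 / 3 : ℝ) • (Q0 * E)) * ((1 / 3 : ℝ) • (Q0 * E)) = (1 / 3 : ℝ) • (Q0 * E) := by
      rw [Matrix.smul_mul, Matrix.mul_smul, smul_smul, Matrix.mul_assoc Q0, ← Matrix.mul_assoc E,
        hQE, Matrix.mul_assoc Q0 E E, hEE, ← Matrix.mul_assoc, hQQ, Matrix.smul_mul, smul_smul]
      norm_num
    obtain ⟨g, hg⟩ := trace_idem_nat _ hQ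
    rw [Matrix.trace_smul, hQ0, Matrix.add_mul, Matrix.add_mul, Matrix.one_mul, Matrix.trace_add,
      Matrix.trace_add, hf, hPt, hPEtr, smul_eq_mul] at hg
    refine ⟨2 * (3 * (g : ℤ) - f) - 2 * ((fixn : ℤ) - 1), ?_⟩
    field_simp at hg
    push_cast
    linarith [hg]

end CfsgLib.ThreeTransp.LocalThree
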