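import Mathlib
import Cfsg.Agent.Lib.ThreeTransp.LocalThree.Exchange
import Cfsg.Agent.Lib.ThreeTransp.LocalThree.Srg

/-!
Counting for the graph of commuting transpositions and its permutations.
-/

set_option autoImplicit false
set_option linter.style.haveILetI false

namespace CfsgLib.ThreeTransp.LocalThree

open Cfsg CfsgLib.Involutions CfsgLib.ThreeTransp Matrix

universe u

variable {G : Type u} [Group G] {D : Set G}

theorem double_count [Finite G] (S T : Set G) (R : G → G → Prop) (p p' : ℕ)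
    (hS : ∀ s ∈ S, {t | t ∈ T ∧ R s t}.ncard = p) (hT : ∀ t ∈ T, {s | s ∈ S ∧ R s t}.ncard = p') :
    S.ncard * p = T.ncard * p' := by
  classical
  haveI : Fintype G := Fintype.ofFinite G
  have h := Finset.sum_card_bipartiteAbove_eq_sum_card_bipartiteBelow (s := S.toFinset)
    (t := T.toFinset) R
  have h1 : ∀ s ∈ S.toFinset, (Finset.bipartiteAbove R T.toFinset s).card = p := fun s hs => by
    rw [← hS s (Set.mem_toFinset.1 hs), ← Set.ncard_coe_finset]
    congr 1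
    ext t
    simp [Finset.bipartiteAbove]
  have h2 : ∀ t ∈ T.toFinset, (Finset.bipartiteBelow R S.toFinset t).card = p' := fun t ht => by
    rw [← hT t (Set.mem_toFinset.1 ht), ← Set.ncard_coe_finset]
    congr 1
    ext s
    simp [Finset.bipartiteBelow]
  rw [Finset.sum_congr rfl h1, Finset.sum_congr rfl h2, Finset.sum_const, Finset.sum_const,
    smul_eq_mul, smul_eq_mul] at h
  rwa [← Set.ncard_eq_toFinset_card', ← Set.ncard_eq_toFinset_card'] at h

theorem dvd_of_closed [Finite G] (hT : IsThreeTranspositionSet D) {x : G} {q : ℕ}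
    (hq : ∀ a ∈ nb D x, (lblk D x a).ncard = q) {S : Set G} (hS : S ⊆ nb D x)
    (hcl : ∀ y ∈ S, lblk D x y ⊆ S) : q ∣ S.ncard := by
  classical
  haveI : Fintype G := Fintype.ofFinite G
  have h := Finset.card_eq_sum_card_fiberwise (f := fun y => (lblk D x y).toFinset)
    (s := S.toFinset) (t := S.toFinset.image fun y => (lblk D x y).toFinset)
    (fun y hy => Finset.mem_image_of_mem _ hy)
  rw [← Set.ncard_eq_toFinset_card'] at h
  rw [h]
  refine Finset.dvd_sum fun B hB => ?_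
  obtain ⟨y, hy, rfl⟩ := Finset.mem_image.1 hB
  rw [Set.mem_toFinset] at hy
  have e : (↑(S.toFinset.filter fun z => (lblk D x z).toFinset = (lblk D x y).toFinset) : Set G) =
      lblk D x y := by
    ext z
    simp only [Finset.coe_filter, Set.mem_toFinset, Set.mem_setOf_eq, Set.toFinset_inj]
    exact ⟨fun h' => h'.2 ▸ lblk_self hT (hS h'.1),
      fun hz => ⟨hcl y hy hz, lblk_eq hT (hS hy) hz⟩⟩
  rw [← Set.ncard_coe_finset, e, hq y (hS hy)]

theorem card_filter_sub [Finite G] [Fintype ↥D] (P : G → Prop) [DecidablePred P] :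
    ((Finset.univ : Finset ↥D).filter fun i : ↥D => P (i : G)).card = {v | v ∈ D ∧ P v}.ncard := by
  rw [← Set.ncard_coe_finset, ← Set.ncard_image_of_injective _ Subtype.val_injective]
  congr 1
  ext v
  simp only [Finset.coe_filter, Finset.mem_univ, true_and, Set.mem_image, Set.mem_setOf_eq]
  exact ⟨fun ⟨i, hi, e⟩ => e ▸ ⟨i.2, hi⟩, fun hv => ⟨⟨v, hv.1⟩, hv.2, rfl⟩⟩

theorem both_eq_inter {a b : G} (hab : ¬ Commute a b) :
    both D a b = nb D a ∩ nb D b := by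
  ext y
  exact ⟨fun hy => ⟨⟨hy.1, fun e => hab (e ▸ hy.2.2).symm, hy.2.1⟩,
    ⟨hy.1, fun e => hab (e ▸ hy.2.1), hy.2.2⟩⟩, fun hy => ⟨hy.1.1, hy.1.2.2, hy.2.2.2⟩⟩

/-- The adjacency matrix. -/
noncomputable def adjM (D : Set G) : Matrix ↥D ↥D ℝ :=
  fun i j => @ite ℝ ((j : G) ∈ nb D (i : G)) (Classical.propDecidable _) 1 0

variable (hT : IsThreeTranspositionSet D) (hconj : ∀ g : G, ∀ d ∈ D, g * d * g⁻¹ ∈ D)

/-- Conjugation on the members. -/
def conjP (g : G) : Equiv.Perm ↥D where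
  toFun i := ⟨g * i * g⁻¹, hconj g i i.2⟩
  invFun i := ⟨g⁻¹ * i * g⁻¹⁻¹, hconj g⁻¹ i i.2⟩
  left_inv i := Subtype.ext (by simp [mul_assoc])
  right_inv i := Subtype.ext (by simp [mul_assoc])

include hconj in
/-- The arithmetic conditions from the permutations given by conjugation. -/
theorem graph_conditions [Finite G] {k lam mu : ℕ} (hne : D.Nonempty)
    (hk : ∀ v ∈ D, (nb D v).ncard = k)
    (hlam : ∀ v ∈ D, ∀ w ∈ nb D v, (nb D v ∩ nb D w).ncard = lam)
    (hmu : ∀ v ∈ D, ∀ w ∈ D, ¬ Commute v w → (nb D v ∩ nb D w).ncard = mu)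
    (hΔ : 0 < ((mu : ℤ) - lam) ^ 2 + 4 * ((k : ℤ) - mu)) :
    ∀ g : G, (∀ v ∈ D, g * v * g⁻¹ ∉ nb D v) →
      ((∀ v ∈ D, g * g * v * (g * g)⁻¹ = v) → ∃ z : ℤ,
        (((((mu : ℤ) - lam) * {v | v ∈ D ∧ g * v * g⁻¹ = v}.ncard - (2 * k + ((mu : ℤ) - lam)) : ℤ)) : ℝ) =
          Real.sqrt (((((mu : ℤ) - lam) ^ 2 + 4 * ((k : ℤ) - mu) : ℤ)) : ℝ) * z) ∧
      ((∀ v ∈ D, g * g * g * v * (g * g * g)⁻¹ = v) → ∃ z : ℤ,
        2 * (((((mu : ℤ) - lam) * {v | v ∈ D ∧ g * v * g⁻¹ = v}.ncard - (2 * k + ((mu : ℤ) - lam)) : ℤ)) : ℝ) =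
          Real.sqrt (((((mu : ℤ) - lam) ^ 2 + 4 * ((k : ℤ) - mu) : ℤ)) : ℝ) * z) := by
  classical
  haveI : Fintype G := Fintype.ofFinite G
  haveI : Fintype ↥D := Fintype.ofFinite _
  haveI : Nonempty ↥D := hne.to_subtype
  intro g hg
  have hsymnb : ∀ i j : ↥D, ((j : G) ∈ nb D (i : G) ↔ (i : G) ∈ nb D (j : G)) := fun i j =>
    ⟨fun h => nb_symm i.2 h, fun h => nb_symm j.2 h⟩
  have hsym : (adjM D)ᵀ = adjM D := by
    ext i j
    simp only [Matrix.transpose_apply, adjM, hsymnb j i]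
  have hrow : ∀ i : ↥D, ∑ j, adjM D i j = (k : ℝ) := by
    intro i
    simp only [adjM]
    rw [Finset.sum_boole, card_filter_sub (fun v => v ∈ nb D (i : G))]
    have : {v | v ∈ D ∧ v ∈ nb D (i : G)} = nb D (i : G) := by
      ext v; exact ⟨fun h => h.2, fun h => ⟨h.1, h⟩⟩
    rw [this, hk i i.2]
  have hsq : adjM D * adjM D = (k : ℝ) • (1 : Matrix ↥D ↥D ℝ) + (lam : ℝ) • adjM D +
      (mu : ℝ) • (allOne ↥D - 1 - adjM D) := by
    ext i j
    have e1 : (adjM D * adjM D) i j =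
        (({v | v ∈ D ∧ (v ∈ nb D (i : G) ∧ v ∈ nb D (j : G))}.ncard : ℕ) : ℝ) := by
      rw [← card_filter_sub (fun v => v ∈ nb D (i : G) ∧ v ∈ nb D (j : G)), Matrix.mul_apply,
        ← Finset.sum_boole]
      refine Finset.sum_congr rfl fun l _ => ?_
      simp only [adjM, hsymnb l j]
      split_ifs <;> simp_all
    have e2 : {v | v ∈ D ∧ (v ∈ nb D (i : G) ∧ v ∈ nb D (j : G))} = nb D (i : G) ∩ nb D (j : G) := by
      ext v; exact ⟨fun h => h.2, fun h => ⟨h.1.1, h⟩⟩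
    rw [e1, e2]
    simp only [Matrix.add_apply, Matrix.smul_apply, Matrix.sub_apply, allOne, adjM, Matrix.one_apply,
      smul_eq_mul]
    by_cases hij : i = j
    · subst hij
      have : (i : G) ∉ nb D (i : G) := fun h => h.2.1 rfl
      simp [this, hk i i.2]
    · by_cases hadj : (j : G) ∈ nb D (i : G)
      · simp [hij, hadj, hlam i i.2 j hadj]
      · have hnc : ¬ Commute (i : G) (j : G) := fun hc =>
          hadj ⟨j.2, fun e => hij (Subtype.ext e.symm), hc⟩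
        simp [hij, hadj, hmu i i.2 j j.2 hnc]
  have hΔ' : (0 : ℝ) < ((mu : ℝ) - lam) ^ 2 + 4 * ((k : ℝ) - mu) := by exact_mod_cast hΔ
  set σ := conjP hconj g with hσ
  have hinv : ∀ i j, adjM D (σ i) (σ j) = adjM D i j := by
    intro i j
    have : ((σ j : ↥D) : G) ∈ nb D ((σ i : ↥D) : G) ↔ (j : G) ∈ nb D (i : G) := by
      show g * j * g⁻¹ ∈ nb D (g * i * g⁻¹) ↔ _
      rw [nb_conj_eq hconj, Set.mem_image]
      exact ⟨fun ⟨y, hy, e⟩ => (mul_left_cancel (mul_right_cancel e)) ▸ hy, fun h => ⟨_, h, rfl⟩⟩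
    simp only [adjM, this]
  have hdiag : ∀ i, adjM D (σ i) i = 0 := by
    intro i
    simp only [adjM]
    rw [if_neg]
    intro h
    exact hg i i.2 (nb_symm (σ i).2 h)
  obtain ⟨h2, h3⟩ := srg_conditions hsym hrow hsq hΔ' σ hinv
  have hval : srgT (adjM D) (k : ℝ) ((mu : ℝ) - lam) σ =
      (((((mu : ℤ) - lam) * {v | v ∈ D ∧ g * v * g⁻¹ = v}.ncard - (2 * k + ((mu : ℤ) - lam)) : ℤ)) : ℝ) := by
    rw [srgT_eq σ hdiag, ← card_filter_sub (fun v => g * v * g⁻¹ = v)]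
    push_cast
    congr 2
    norm_cast
    congr 1
    ext i
    simp [hσ, conjP, Subtype.ext_iff]
  have hD' : Real.sqrt (((((mu : ℤ) - lam) ^ 2 + 4 * ((k : ℤ) - mu) : ℤ)) : ℝ) =
      Real.sqrt (((mu : ℝ) - lam) ^ 2 + 4 * ((k : ℝ) - mu)) := by push_cast; rfl
  rw [hD', ← hval]
  constructor
  · intro hgg
    refine h2 (Equiv.ext fun i => Subtype.ext ?_)
    show g * (g * (i : G) * g⁻¹) * g⁻¹ = (i : G)
    exact (show g * (g * (i : G) * g⁻¹) * g⁻¹ = g * g * (i : G) * (g * g)⁻¹ by group).trans (hgg i i.2)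
  · intro hgg
    refine h3 (Equiv.ext fun i => Subtype.ext ?_)
    show g * (g * (g * (i : G) * g⁻¹) * g⁻¹) * g⁻¹ = (i : G)
    exact (show g * (g * (g * (i : G) * g⁻¹) * g⁻¹) * g⁻¹ = g * g * g * (i : G) * (g * g * g)⁻¹ by
      group).trans (hgg i i.2)

end CfsgLib.ThreeTransp.LocalThree
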