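import Mathlib
import Cfsg.Agent.Lib.ThreeTransp.LocalThree.Count
import Cfsg.Agent.Lib.ThreeTransp.LocalThree.Arith
import Cfsg.Agent.Lib.ThreeTransp.SymThreeLocal
import Cfsg.Agent.Lib.Geometry.D4Shape

/-!
A 3-transposition group whose local group has a noncentral odd core is the symmetric group of degree five.
-/

set_option autoImplicit false
set_option linter.style.haveILetI false

namespace CfsgLib.ThreeTransp.LocalThree

open Cfsg CfsgLib.Involutions CfsgLib.ThreeTransp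

universe u

variable {G : Type u} [Group G] {D : Set G}

/-- An integer square root from a rationality statement. -/
theorem exists_sqrt {Δ : ℤ} {T z : ℤ} (hΔ : 0 ≤ Δ) (hT : T ≠ 0)
    (h : (T : ℝ) = Real.sqrt (Δ : ℝ) * z) :
    ∃ δ : ℤ, 0 ≤ δ ∧ δ * δ = Δ ∧ Real.sqrt (Δ : ℝ) = δ := by
  obtain ⟨N, rfl⟩ := Int.eq_ofNat_of_zero_le hΔ
  by_cases hsq : IsSquare N
  · obtain ⟨s, rfl⟩ := hsq
    refine ⟨(s : ℤ), Int.natCast_nonneg s, by push_cast; ring, ?_⟩
    push_cast
    exact Real.sqrt_mul_self (Nat.cast_nonneg s)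
  · exfalso
    have hirr : Irrational (Real.sqrt (N : ℝ)) := irrational_sqrt_natCast_iff.2 hsq
    have hz : (z : ℝ) ≠ 0 := fun e => by
      rw [e, mul_zero] at h; exact hT (by exact_mod_cast h)
    apply hirr
    refine ⟨(T : ℚ) / z, ?_⟩
    have hN : ((N : ℤ) : ℝ) = (N : ℝ) := by push_cast; rfl
    rw [hN] at h
    push_cast
    rw [h, mul_div_assoc, div_self hz, mul_one]

theorem dvd_of_real {δ T z : ℤ} (h : (T : ℝ) = (δ : ℝ) * z) : δ ∣ T := ⟨z, by exact_mod_cast h⟩

/-- Two non-commuting involutions with product of order three generate a symmetric group. -/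
theorem closure_pair_sym3 {a b : G} (ha : orderOf a = 2) (hb : orderOf b = 2)
    (hab : orderOf (a * b) = 3) :
    Nonempty (↥(Subgroup.closure ({a, b} : Set G)) ≃* Equiv.Perm (Fin 3)) := by
  obtain ⟨e0⟩ := CfsgLib.Geometry.perm_three_equiv
  have hn : a * b ≠ 1 := fun e => by rw [e, orderOf_one] at hab; norm_num at hab
  set φ := dihedralHom ha hb with hφ
  have hker : ∀ k : ℤ, (a * b) ^ k = 1 → (k : ZMod (orderOf (a * b))) = 0 := fun k hk =>
    (ZMod.intCast_zmod_eq_zero_iff_dvd k _).2 (orderOf_dvd_iff_zpow_eq_one.2 hk)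
  have hinj : Function.Injective φ := by
    rw [injective_iff_map_eq_one]
    rintro (i | i) hi
    · have h := hker _ hi
      rw [ZMod.intCast_zmod_cast] at h
      rw [h]; rfl
    · exfalso
      have h1 := orderOf_refl ha hb hn (i.cast : ℤ)
      rw [show a * (a * b) ^ (i.cast : ℤ) = 1 from hi, orderOf_one] at h1
      norm_num at h1
  have hrange : φ.range = Subgroup.closure ({a, b} : Set G) := by
    ext g
    constructor
    · rintro ⟨(i | i), rfl⟩
      · exact zpow_prod_mem_closure _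
      · exact mul_mem (Subgroup.subset_closure (by simp)) (zpow_prod_mem_closure _)
    · intro hg
      obtain ⟨k, rfl | rfl⟩ := (mem_closure_pair_iff ha hb).1 hg
      · refine ⟨DihedralGroup.r (k : ZMod (orderOf (a * b))), ?_⟩
        rw [hφ]; simp only [dihedralHom, MonoidHom.coe_mk, OneHom.coe_mk]
        rw [← orderOf_dvd_sub_iff_zpow_eq_zpow, ← ZMod.intCast_zmod_eq_zero_iff_dvd]
        simp
      · refine ⟨DihedralGroup.sr (k : ZMod (orderOf (a * b))), ?_⟩
        rw [hφ]; simp only [dihedralHom, MonoidHom.coe_mk, OneHom.coe_mk]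
        congr 1
        rw [← orderOf_dvd_sub_iff_zpow_eq_zpow, ← ZMod.intCast_zmod_eq_zero_iff_dvd]
        simp
  refine ⟨(MulEquiv.subgroupCongr hrange).symm.trans ((MonoidHom.ofInjective hinj).symm.trans ?_)⟩
  rw [hab]
  exact e0.symm

theorem sym5_of_core [Finite G] (hsol : ∀ N : Subgroup G, N.Normal → Group.IsSolvable ↥N → N = ⊥)
    (hperf : ⁅commutator G, commutator G⁆ = commutator G) (hD : IsThreeTranspositionClass D) {x₀ : G}
    (hx₀ : x₀ ∈ D)
    (h : ¬ oddCore ↥(Subgroup.closure (nb D x₀)) ≤ Subgroup.center ↥(Subgroup.closure (nb D x₀))) :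
    Nonempty (G ≃* Equiv.Perm (Fin 5)) := by
  classical
  have hT := hD.1
  have hconj := class_conj_mem hD
  obtain ⟨a₀, ha₀, b₀, hb₀, hab₀⟩ := exists_big_block hT hconj hx₀ h
  have hC := tclass_of_class hD ⟨x₀, hx₀, a₀, ha₀.1, ha₀.2.1.symm⟩
  have hp := hC.primitive_of_fischer hsol hperf
  have hw : ∃ a ∈ D, ∃ b ∈ D, a ≠ b ∧ Commute a b :=
    ⟨x₀, hx₀, a₀, ha₀.1, ha₀.2.1.symm, ha₀.2.2⟩
  have hn₀ : ¬ Commute a₀ b₀ := lblk_not_commute hT ha₀ hb₀ hab₀
  -- transitivity on the two kinds of pairs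
  have hnpair : ∀ {a b : G}, a ∈ D → b ∈ D → ¬ Commute a b →
      SamePair a₀ b₀ a b := by
    intro a b ha hb hab
    obtain ⟨g, hg⟩ := hC.trans a₀ ha₀.1 a ha
    have h1 : SamePair a₀ b₀ a (g * b₀ * g⁻¹) := ⟨g, hg, rfl⟩
    refine h1.trans (hC.rank_three hp hw ha (hC.conj g b₀ hb₀.1.1) hb (fun hc => hn₀ ?_) hab)
    rw [← hg] at hc
    exact (commute_conj_iff g).1 hc
  have hepair : ∀ {x a : G}, x ∈ D → a ∈ nb D x → SamePair x₀ a₀ x a := by
    intro x a hx ha
    obtain ⟨g, hg⟩ := hC.trans x₀ hx₀ x hx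
    have hga : g * a₀ * g⁻¹ ∈ nb D x := by rw [← hg, nb_conj_eq hconj]; exact ⟨a₀, ha₀, rfl⟩
    obtain ⟨k, hk, hk'⟩ := hC.orb_nb hp hx hga ha
    exact (show SamePair x₀ a₀ x (g * a₀ * g⁻¹) from ⟨g, hg, rfl⟩).trans
      ⟨k, by rw [(commute_closure_nb hk).eq, mul_inv_cancel_right], hk'⟩
  -- block size
  obtain ⟨r, hr⟩ := lblk_pow hT hconj ha₀
  set q := 3 ^ r with hqdef
  have hblk : ∀ x ∈ D, ∀ a ∈ nb D x, (lblk D x a).ncard = q := by
    intro x hx a ha
    obtain ⟨g, rfl, rfl⟩ := hepair hx ha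
    rw [lblk_conj hT hconj, Set.ncard_image_of_injective _ (fun p p' e =>
      mul_left_cancel (mul_right_cancel e)), hr]
  have hr1 : 1 ≤ r := by
    by_contra hr0
    have h1 : (lblk D x₀ a₀).ncard = 1 := by rw [hr, hqdef, show r = 0 by omega, pow_zero]
    exact hab₀ ((Set.ncard_le_one_iff (Set.toFinite _)).1 h1.le (lblk_self hT ha₀) hb₀)
  have hq3 : 3 ≤ q := by
    rw [hqdef]; exact le_self_pow₀ (by norm_num) (by omega)
  -- valency
  set k := (nb D x₀).ncard with hkdef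
  have hk : ∀ v ∈ D, (nb D v).ncard = k := by
    intro v hv
    obtain ⟨g, rfl⟩ := hC.trans x₀ hx₀ v hv
    rw [nb_conj_eq hconj, Set.ncard_image_of_injective _ (fun p p' e =>
      mul_left_cancel (mul_right_cancel e))]
  set lam := (nb D x₀ ∩ nb D a₀).ncard with hlamdef
  have himg : ∀ {v w g : G}, (nb D (g * v * g⁻¹) ∩ nb D (g * w * g⁻¹)).ncard =
      (nb D v ∩ nb D w).ncard := by
    intro v w g
    rw [nb_conj_eq hconj, nb_conj_eq hconj, ← Set.image_inter (fun p p' e =>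
      mul_left_cancel (mul_right_cancel e)), Set.ncard_image_of_injective _ (fun p p' e =>
      mul_left_cancel (mul_right_cancel e))]
  have hlam : ∀ v ∈ D, ∀ w ∈ nb D v, (nb D v ∩ nb D w).ncard = lam := by
    intro v hv w hw'
    obtain ⟨g, rfl, rfl⟩ := hepair hv hw'
    exact himg
  set mu := (nb D a₀ ∩ nb D b₀).ncard with hmudef
  have hmu : ∀ v ∈ D, ∀ w ∈ D, ¬ Commute v w → (nb D v ∩ nb D w).ncard = mu := by
    intro v hv w hw' hvw
    obtain ⟨g, rfl, rfl⟩ := hnpair hv hw' hvw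
    exact himg
  set u := (xset D a₀ b₀).ncard with hudef
  have hxs : ∀ a ∈ D, ∀ b ∈ D, ¬ Commute a b →
      (xset D a b).ncard = u ∧ (xset D a b).Nonempty := by
    intro a ha b hb hab
    obtain ⟨g, rfl, rfl⟩ := hnpair ha hb hab
    have e : xset D (g * a₀ * g⁻¹) (g * b₀ * g⁻¹) = (fun v => g * v * g⁻¹) '' xset D a₀ b₀ := by
      ext v
      constructor
      · rintro ⟨hv, hva, hvb⟩
        have ev : v = g * (g⁻¹ * v * g) * g⁻¹ := by group
        rw [ev] at hva hvb
        rw [lblk_conj hT hconj] at hvb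
        rw [nb_conj_eq hconj] at hva
        obtain ⟨y, hy, e1⟩ := hva
        obtain ⟨y', hy', e2⟩ := hvb
        have h1 := mul_left_cancel (mul_right_cancel e1)
        have h2 := mul_left_cancel (mul_right_cancel e2)
        subst h1; subst h2
        exact ⟨g⁻¹ * v * g, ⟨by simpa using hconj g⁻¹ v hv, hy, hy'⟩, ev.symm⟩
      · rintro ⟨y, ⟨hy, hya, hyb⟩, rfl⟩
        refine ⟨hconj g y hy, ?_, ?_⟩
        · rw [nb_conj_eq hconj]; exact ⟨a₀, hya, rfl⟩
        · rw [lblk_conj hT hconj]; exact ⟨b₀, hyb, rfl⟩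
    rw [e]
    exact ⟨Set.ncard_image_of_injective _ (fun p p' e => mul_left_cancel (mul_right_cancel e)),
      ⟨_, x₀, ⟨hx₀, ha₀, hb₀⟩, rfl⟩⟩
  have hpriv : ∀ {a b : G}, a ∈ D → b ∈ D → ¬ Commute a b → ∃ v ∈ nb D a, ¬ Commute b v := by
    intro a b ha hb hab
    obtain ⟨v, hv, d, hd, hav, hbv, hbd, had, hvd⟩ := hC.exists_private hp hw ha hb hab
    exact ⟨v, ⟨hv, fun e => had (e ▸ hvd), hav⟩, hbv⟩
  have hX₀ : x₀ ∈ xset D a₀ b₀ := ⟨hx₀, ha₀, hb₀⟩
  have hp₀ := hpriv ha₀.1 hb₀.1.1 hn₀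
  have hmueq : mu = lam + u := by
    have h1 := both_card hT hconj ha₀.1 hb₀.1.1 hn₀ hp₀ hX₀
    rw [both_eq_inter hn₀] at h1
    exact h1
  have hule : u ≤ q := (xset_card_le hT hconj ha₀.1 hb₀.1.1 hn₀ hp₀ hX₀).trans
    (le_of_eq (hblk a₀ ha₀.1 x₀ (nb_symm hx₀ ha₀)))
  obtain ⟨i, hi⟩ := xset_pow hT hconj ha₀.1 hb₀.1.1 hn₀ hp₀ ⟨x₀, hX₀⟩
  rw [← hudef] at hi
  have hmuk : mu < k := by
    rw [hmudef, ← hk a₀ ha₀.1]
    refine Set.ncard_lt_ncard ⟨Set.inter_subset_left, fun hle => ?_⟩ (Set.toFinite _)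
    obtain ⟨v, hv, hvb⟩ := hp₀
    exact hvb (hle hv).2.2.2
  -- counting
  set l := ({b | b ∈ D ∧ ¬ Commute a₀ b}).ncard with hldef
  have hl0 : 0 < l := (Set.ncard_pos (Set.toFinite _)).2 ⟨b₀, hb₀.1.1, hn₀⟩
  have hlam1 : lam + 1 ≤ k := by
    rw [hlamdef, ← hk x₀ hx₀]
    exact Set.ncard_lt_ncard ⟨Set.inter_subset_left, fun hle => (hle ha₀).2.2.1 rfl⟩ (Set.toFinite _)
  have hc1 : l * mu = k * (k - lam - 1) := by
    have h1 := double_count {b | b ∈ D ∧ ¬ Commute a₀ b} (nb D a₀)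
      (fun b x => x ∈ nb D b) mu (k - lam - 1)
      (fun b hb => by rw [← hmu a₀ ha₀.1 b hb.1 hb.2]; rfl)
      (fun x hx => by
        have e : {b | b ∈ {b | b ∈ D ∧ ¬ Commute a₀ b} ∧ x ∈ nb D b} =
            nb D x \ insert a₀ (nb D x ∩ nb D a₀) := by
          ext b
          constructor
          · rintro ⟨⟨hb, hab⟩, hxb⟩
            refine ⟨nb_symm hb hxb, ?_⟩
            rintro (rfl | ⟨-, hb'⟩)
            · exact hab (Commute.refl _)
            · exact hab hb'.2.2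
          · rintro ⟨hb, hb'⟩
            refine ⟨⟨hb.1, fun hc => hb' (Or.inr ⟨hb, hb.1, fun e => hb' (Or.inl e), hc⟩)⟩,
              nb_symm hx.1 hb⟩
        rw [e, Set.ncard_sdiff (Set.insert_subset (nb_symm ha₀.1 hx) Set.inter_subset_left),
          Set.ncard_insert_of_notMem (fun h' => h'.2.2.1 rfl), hk x hx.1,
          hlam x hx.1 a₀ (nb_symm ha₀.1 hx)]
        omega)
    rwa [hk a₀ ha₀.1] at h1
  have hc2 : l * u = k * (q - 1) := by
    have h1 := double_count {b | b ∈ D ∧ ¬ Commute a₀ b} (nb D a₀)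
      (fun b x => x ∈ xset D a₀ b) u (q - 1)
      (fun b hb => by
        rw [← (hxs a₀ ha₀.1 b hb.1 hb.2).1]
        congr 1
        ext x
        exact ⟨fun h' => h'.2, fun h' => ⟨nb_symm h'.1 h'.2.1, h'⟩⟩)
      (fun x hx => by
        have hax : a₀ ∈ nb D x := nb_symm ha₀.1 hx
        have e : {b | b ∈ {b | b ∈ D ∧ ¬ Commute a₀ b} ∧ x ∈ xset D a₀ b} =
            lblk D x a₀ \ {a₀} := by
          ext b
          constructor
          · rintro ⟨⟨hb, hab⟩, -, -, hxb⟩
            exact ⟨hxb, fun e => hab (by rw [Set.mem_singleton_iff] at e; rw [e])⟩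
          · rintro ⟨hb, hb'⟩
            exact ⟨⟨hb.1.1, lblk_not_commute hT hax hb (fun e => hb' e.symm)⟩, hx.1, hax, hb⟩
        rw [e, Set.ncard_sdiff_singleton_of_mem (lblk_self hT hax), hblk x hx.1 a₀ hax])
    rwa [hk a₀ ha₀.1] at h1
  have hn : D.ncard = 1 + k + l := by
    have e : D = insert a₀ (nb D a₀) ∪ {b | b ∈ D ∧ ¬ Commute a₀ b} := by
      ext b
      constructor
      · intro hb
        by_cases hc : Commute a₀ b
        · by_cases hba : b = a₀
          · exact Or.inl (Or.inl hba)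
          · exact Or.inl (Or.inr ⟨hb, hba, hc⟩)
        · exact Or.inr ⟨hb, hc⟩
      · rintro ((rfl | hb) | hb)
        · exact ha₀.1
        · exact hb.1
        · exact hb.1
    conv_lhs => rw [e]
    rw [Set.ncard_union_eq ?_ (Set.toFinite _) (Set.toFinite _),
      Set.ncard_insert_of_notMem (fun h' => h'.2.1 rfl), hk a₀ ha₀.1, ← hldef]
    · ring
    · rw [Set.disjoint_left]
      rintro b (rfl | hb) ⟨-, hb'⟩
      · exact hb' (Commute.refl _)
      · exact hb' hb.2.2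
  have hkq : q ∣ k := hk x₀ hx₀ ▸ dvd_of_closed hT (hblk x₀ hx₀) (le_refl _) fun y _ v hv => hv.1
  have hlamq : q ∣ lam := dvd_of_closed hT (hblk x₀ hx₀) Set.inter_subset_left fun y hy v hv => by
    refine ⟨hv.1, hv.1.1, fun e => ?_, (lblk_commute hT hy.1 ha₀ hy.2.2.1.symm hy.2.2.2.symm hv)⟩
    subst e
    exact hy.2.2.1 (by_contra fun hne => lblk_not_commute hT hy.1 hv hne hy.2.2.2.symm)
  -- the eigenvalue conditions
  set Δ : ℤ := ((mu : ℤ) - lam) ^ 2 + 4 * ((k : ℤ) - mu) with hΔdef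
  have hΔ : 0 < Δ := by
    have h1 := sq_nonneg ((mu : ℤ) - lam)
    have h2 : (mu : ℤ) < k := by exact_mod_cast hmuk
    rw [hΔdef]; linarith
  have hG := graph_conditions hconj (k := k) (lam := lam) (mu := mu) ⟨x₀, hx₀⟩ hk hlam hmu hΔ
  obtain ⟨z1, hz1⟩ := (hG 1 (fun v _ hv => hv.2.1 (by simp))).1 (fun v _ => by simp)
  have hfx : {v | v ∈ D ∧ x₀ * v * x₀⁻¹ = v} = insert x₀ (nb D x₀) := by
    ext v
    constructor
    · rintro ⟨hv, hc⟩
      by_cases hvx : v = x₀
      · exact Or.inl hvx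
      · exact Or.inr ⟨hv, hvx, mul_inv_eq_iff_eq_mul.1 hc⟩
    · rintro (rfl | hv)
      · exact ⟨hx₀, by group⟩
      · exact ⟨hv.1, mul_inv_eq_iff_eq_mul.2 hv.2.2⟩
  obtain ⟨z2, hz2⟩ := (hG x₀ (fun v hv hmem => by
    have hc : Commute v (x₀ * v * x₀⁻¹) := hmem.2.2
    by_cases hxv : Commute x₀ v
    · exact hmem.2.1 (mul_inv_eq_iff_eq_mul.2 hxv)
    · rw [ts_inv hT hx₀, ts_braid hT hx₀ hv hxv] at hc
      have := (cnj_iff hT hv).2 hc
      rw [cnj_self hT hv (Commute.refl v), cnj_twice hT hv] at this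
      exact hxv this.symm)).1 (fun v _ => by rw [ts_mul_self hT hx₀]; group)
  have iab : (a₀ * b₀)⁻¹ = b₀ * a₀ := by rw [mul_inv_rev, ts_inv hT ha₀.1, ts_inv hT hb₀.1.1]
  have eab : ∀ v : G, a₀ * b₀ * v * (a₀ * b₀)⁻¹ = a₀ * (b₀ * v * b₀) * a₀ := fun v => by
    rw [iab]; group
  have hab3 : (a₀ * b₀) * (a₀ * b₀) * (a₀ * b₀) = 1 := by
    have := ts_cube hT ha₀.1 hb₀.1.1 hn₀
    rwa [pow_succ, pow_two] at this
  have hmove : ∀ v ∈ D, Commute (a₀ * v * a₀) (b₀ * v * b₀) → Commute a₀ v ∧ Commute b₀ v := by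
    intro v hv hc
    by_cases hav : Commute a₀ v
    · rw [cnj_self hT ha₀.1 hav] at hc
      refine ⟨hav, by_contra fun hbv => ?_⟩
      rw [ts_braid hT hb₀.1.1 hv hbv] at hc
      have := (cnj_iff hT hv).2 hc
      rw [cnj_self hT hv (Commute.refl v), cnj_twice hT hv] at this
      exact hbv this.symm
    · exfalso
      by_cases hbv : Commute b₀ v
      · rw [cnj_self hT hb₀.1.1 hbv, ts_braid hT ha₀.1 hv hav] at hc
        have := (cnj_iff hT hv).2 hc
        rw [cnj_self hT hv (Commute.refl v), cnj_twice hT hv] at this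
        exact hav this
      · rw [ts_braid hT ha₀.1 hv hav, ts_braid hT hb₀.1.1 hv hbv] at hc
        exact hn₀ ((cnj_iff hT hv).1 hc)
  have hfab : {v | v ∈ D ∧ a₀ * b₀ * v * (a₀ * b₀)⁻¹ = v} = nb D a₀ ∩ nb D b₀ := by
    rw [← both_eq_inter hn₀]
    ext v
    constructor
    · rintro ⟨hv, hfix⟩
      rw [eab] at hfix
      have e : a₀ * v * a₀ = b₀ * v * b₀ := by
        conv_lhs => rw [← hfix, cnj_twice hT ha₀.1]
      exact ⟨hv, hmove v hv (by rw [e])⟩
    · rintro ⟨hv, hav, hbv⟩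
      exact ⟨hv, by rw [eab, cnj_self hT hb₀.1.1 hbv, cnj_self hT ha₀.1 hav]⟩
  obtain ⟨z3, hz3⟩ := (hG (a₀ * b₀) (fun v hv hmem => by
    have hc : Commute v (a₀ * b₀ * v * (a₀ * b₀)⁻¹) := hmem.2.2
    rw [eab] at hc
    have h1 := (cnj_iff hT ha₀.1).2 hc
    rw [cnj_twice hT ha₀.1] at h1
    obtain ⟨hav, hbv⟩ := hmove v hv h1
    exact hmem.2.1 (by rw [eab, cnj_self hT hb₀.1.1 hbv, cnj_self hT ha₀.1 hav]))).2
      (fun v _ => by rw [hab3]; group)
  rw [hfx, Set.ncard_insert_of_notMem (fun h' => h'.2.1 rfl), hk x₀ hx₀] at hz2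
  rw [hfab, ← hmudef] at hz3
  have hone : {v | v ∈ D ∧ (1 : G) * v * 1⁻¹ = v} = D := by
    ext v; simp
  rw [hone, hn] at hz1
  -- in integers
  set U : ℤ := (mu : ℤ) - lam with hU
  have hUu : U = u := by rw [hU, hmueq]; push_cast; ring
  have hU3 : U = 3 ^ i := by rw [hUu, hi]; push_cast; ring
  have hTx : U * ((k + 1 : ℕ) : ℤ) - (2 * k + U) = k * (U - 2) := by push_cast; ring
  rw [hTx] at hz2
  have hTx0 : (k : ℤ) * (U - 2) ≠ 0 := by
    refine mul_ne_zero (by exact_mod_cast (by omega : k ≠ 0)) ?_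
    rw [hU3]
    intro e
    rcases i with _ | i
    · norm_num at e
    · have : (3 : ℤ) ≤ 3 ^ (i + 1) := le_self_pow₀ (by norm_num) (by omega)
      linarith
  obtain ⟨δ, hδ0, hδ, hδr⟩ := exists_sqrt hΔ.le hTx0 hz2
  rw [hδr] at hz1 hz2 hz3
  have d1 : δ ∣ U * ((1 + k + l : ℕ) : ℤ) - (2 * k + U) := dvd_of_real hz1
  have d2 : δ ∣ (k : ℤ) * (U - 2) := dvd_of_real hz2
  have d3 : δ ∣ 2 * (U * (mu : ℤ) - (2 * k + U)) := dvd_of_real (z := z3) (by push_cast; push_cast at hz3; linarith)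
  rw [hUu] at d1 d2 d3
  have hrel : (u : ℤ) * ((k : ℤ) - lam - 1) = (mu : ℤ) * ((q : ℤ) - 1) := by
    have h1 : u * (k - lam - 1) = mu * (q - 1) := by
      apply Nat.eq_of_mul_eq_mul_left hl0
      rcases Nat.eq_zero_or_pos k with hk0 | hk0
      · omega
      apply Nat.eq_of_mul_eq_mul_left hk0
      calc k * (l * (u * (k - lam - 1))) = (k * (k - lam - 1)) * (l * u) := by ring
        _ = (l * mu) * (k * (q - 1)) := by rw [hc1, hc2]
        _ = k * (l * (mu * (q - 1))) := by ring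
    have h2 : ((u * (k - lam - 1) : ℕ) : ℤ) = ((mu * (q - 1) : ℕ) : ℤ) := by rw [h1]
    have e1 : ((k - lam - 1 : ℕ) : ℤ) = (k : ℤ) - lam - 1 := by omega
    have e2 : ((q - 1 : ℕ) : ℤ) = (q : ℤ) - 1 := by omega
    push_cast [e1, e2] at h2
    exact h2
  obtain ⟨m, hm⟩ := hkq
  obtain ⟨m', hm'⟩ := hlamq
  have hmu' : (mu : ℤ) = lam + u := by rw [hmueq]; push_cast; ring
  have hkey : (u : ℤ) * ((k : ℤ) - lam - q) = lam * ((q : ℤ) - 1) := by
    rw [hmu'] at hrel; linear_combination hrel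
  have hfinal : q = 3 ∧ k = 3 ∧ lam = 0 ∧ mu = 1 := by
    have hδ' : δ * δ = (u : ℤ) ^ 2 + 4 * ((k : ℤ) - lam - u) := by
      rw [hδ, hΔdef, hUu, hmu']; ring
    rcases Nat.eq_zero_or_pos i with rfl | hi0
    · rw [pow_zero] at hi
      rw [hi] at hkey hδ' d2 d3 hmueq
      have hlm : lam ≤ k := by omega
      obtain ⟨h1, h2, h3⟩ := case_one (q := q) (k := k) (lam := lam) (m' := m - m') (D0 := δ) hq3
        (by rw [Nat.mul_sub, ← hm, ← hm']; omega) (by rw [hδ']; push_cast; ring)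
        (by simpa using d2) (by
          have e : (mu : ℤ) = lam + 1 := by rw [hmueq]; push_cast; ring
          rw [e] at d3
          convert d3 using 1; push_cast; ring)
        (by push_cast at hkey; linarith)
      exact ⟨h1, h3, h2, by omega⟩
    · exfalso
      rcases Nat.lt_or_ge i r with hir | hir
      · obtain ⟨s, rfl⟩ : ∃ s, r = i + (s + 1) := ⟨r - i - 1, by omega⟩
        obtain ⟨i', rfl⟩ : ∃ i', i = i' + 1 := ⟨i - 1, by omega⟩
        set B : ℤ := 3 ^ (i' + 1) + 4 * 3 ^ (s + 1) * ((m : ℤ) - m') - 4 with hB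
        have hBmod : B % 3 = 2 := by
          have : B = 3 * (3 ^ i' + 4 * 3 ^ s * ((m : ℤ) - m') - 2) + 2 := by rw [hB]; ring
          omega
        refine not_sq_two_mod hBmod (i' + 1) δ ?_
        rw [hδ', hi, hm, hm', hqdef, hB]
        push_cast
        ring
      · have hir' : i = r := by
          refine le_antisymm ?_ hir
          rw [hi, hqdef] at hule
          exact (Nat.pow_le_pow_iff_right (by norm_num)).1 hule
        subst hir'
        have huq : u = q := hi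
        rw [huq] at hkey hδ' d1 d2 d3 hmueq hc2
        have hjj : ∃ j : ℤ, (m' : ℤ) = q * j ∧ (m : ℤ) - m' - 1 = ((q : ℤ) - 1) * j := by
          have e : (q : ℤ) * ((m : ℤ) - m' - 1) = (m' : ℤ) * ((q : ℤ) - 1) := by
            have hq0 : (q : ℤ) ≠ 0 := by omega
            apply mul_left_cancel₀ hq0
            rw [hm, hm'] at hkey
            push_cast at hkey
            linear_combination hkey
          refine ⟨(m' : ℤ) - ((m : ℤ) - m' - 1), ?_, ?_⟩
          · linear_combination e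
          · linear_combination e
        obtain ⟨j, hj1, hj2⟩ := hjj
        have hkj : (k : ℤ) = q * (1 + (2 * (q : ℤ) - 1) * j) := by
          rw [hm]; push_cast; linear_combination (q : ℤ) * hj2 + (q : ℤ) * hj1
        have hlj : (lam : ℤ) = q * q * j := by
          rw [hm']; push_cast; linear_combination (q : ℤ) * hj1
        have hj0 : 1 ≤ j := by
          by_contra hj0
          push Not at hj0
          have h1 : (mu : ℤ) < k := by exact_mod_cast hmuk
          rw [hmu', hkj, hlj, huq] at h1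
          nlinarith [mul_nonneg (mul_nonneg (Int.natCast_nonneg q)
            (by omega : (0 : ℤ) ≤ (q : ℤ) - 1)) (by omega : (0 : ℤ) ≤ -j)]
        have hlu : (l : ℤ) * q = k * ((q : ℤ) - 1) := by
          have e2 : ((q - 1 : ℕ) : ℤ) = (q : ℤ) - 1 := by omega
          have := congrArg (Nat.cast : ℕ → ℤ) hc2
          push_cast [e2] at this
          exact this
        have dT1 : δ ∣ (k : ℤ) * (2 * q - 3) := by
          convert d1 using 1; push_cast; linear_combination -hlu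
        have dk : δ ∣ (k : ℤ) := by
          have := dvd_sub dT1 (dvd_mul_of_dvd_right d2 2)
          rwa [show (k : ℤ) * (2 * q - 3) - 2 * (k * ((q : ℤ) - 2)) = k by ring] at this
        refine case_block (r := i) (j := j) (D0 := δ) hr1 hj0 hδ0 ?_ ?_ ?_
        · have eq' : (q : ℤ) = 3 ^ i := by rw [hqdef]; push_cast; ring
          rw [hδ', hkj, hlj, ← eq']; ring
        · have eq' : (q : ℤ) = 3 ^ i := by rw [hqdef]; push_cast; ring
          rw [hkj, eq'] at dk; exact dk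
        · have eq' : (q : ℤ) = 3 ^ i := by rw [hqdef]; push_cast; ring
          have := dvd_add d3 (dvd_mul_of_dvd_right dk 4)
          rw [hmu', hlj, huq] at this
          rw [← eq']
          have e : 2 * ((q : ℤ) * ((q : ℤ) * q * j + q - 1)) =
              2 * ((q : ℤ) * ((q : ℤ) * q * j + q) - (2 * (k : ℤ) + q)) + 4 * (k : ℤ) := by ring
          rw [e]; exact this
  obtain ⟨hq, hk3, hl0', hmu1⟩ := hfinal
  -- the local groups are symmetric of degree three
  have hnoedge : ∀ {d a y : G}, d ∈ D → a ∈ nb D d → y ∈ nb D d → y ≠ a → ¬ Commute a y := by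
    intro d a y hd ha hy hne hc
    have h0 := hlam d hd a ha
    rw [hl0'] at h0
    exact (Set.eq_empty_iff_forall_notMem.1 ((Set.ncard_eq_zero (Set.toFinite _)).1 h0)) y
      ⟨hy, hy.1, hne, hc⟩
  have hloc : SymThree.LocS3 D := by
    intro d hd
    show Nonempty (↥(Subgroup.closure (nb D d)) ≃* Equiv.Perm (Fin 3))
    obtain ⟨g, hg⟩ := hC.trans x₀ hx₀ d hd
    have ha : g * a₀ * g⁻¹ ∈ nb D d := by rw [← hg, nb_conj_eq hconj]; exact ⟨a₀, ha₀, rfl⟩
    have hb : g * b₀ * g⁻¹ ∈ nb D d := by rw [← hg, nb_conj_eq hconj]; exact ⟨b₀, hb₀.1, rfl⟩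
    set a := g * a₀ * g⁻¹ with hadef
    set b := g * b₀ * g⁻¹ with hbdef
    have hne : b ≠ a := fun e => hab₀ (mul_left_cancel (mul_right_cancel e)).symm
    have hnc := hnoedge hd ha hb hne
    have hc : a * b * a ∈ nb D d := by
      refine ⟨by have := hconj a b hb.1; rwa [ts_inv hT ha.1] at this, fun e => hb.2.1 ?_,
        (ha.2.2.mul_right hb.2.2).mul_right ha.2.2⟩
      calc b = a * (a * b * a) * a := (cnj_twice hT ha.1).symm
        _ = d := by rw [e, cnj_self hT ha.1 ha.2.2.symm]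
    have hset : ({a, b, a * b * a} : Set G) = nb D d := by
      have hsub : ({a, b, a * b * a} : Set G) ⊆ nb D d := by
        rintro v (rfl | rfl | rfl)
        exacts [ha, hb, hc]
      refine Set.eq_of_subset_of_ncard_le hsub ?_ (Set.toFinite _)
      rw [hk d hd, hk3, Set.ncard_eq_three.2 ⟨a, b, a * b * a, hne.symm, ?_, ?_, rfl⟩]
      · intro e
        apply hne
        have h1 := congrArg (fun t => a * t * a) e
        simpa only [cnj_twice hT ha.1, cnj_self hT ha.1 (Commute.refl a)] using h1.symm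
      · intro e
        exact hnc ((cnj_iff hT ha.1).1 (by
          rw [cnj_self hT ha.1 (Commute.refl a), ← e]
          exact absurd (mul_inv_eq_iff_eq_mul.1 (show a * b * a⁻¹ = b by
            rw [ts_inv hT ha.1]; exact e.symm)) hnc))
    have hcl : Subgroup.closure (nb D d) = Subgroup.closure ({a, b} : Set G) := by
      rw [← hset]
      refine le_antisymm ((Subgroup.closure_le _).2 ?_) (Subgroup.closure_mono ?_)
      · have hA : a ∈ Subgroup.closure ({a, b} : Set G) := Subgroup.subset_closure (by simp)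
        have hB : b ∈ Subgroup.closure ({a, b} : Set G) := Subgroup.subset_closure (by simp)
        rintro v (rfl | rfl | rfl)
        exacts [hA, hB, mul_mem (mul_mem hA hB) hA]
      · rintro v (rfl | rfl) <;> simp
    obtain ⟨e⟩ := closure_pair_sym3 (ts_invol hT ha.1) (ts_invol hT hb.1)
      (ts_orderOf_three hT ha.1 hb.1 hnc)
    exact ⟨(MulEquiv.subgroupCongr hcl).trans e⟩
  have hnt : SymThree.NoTwins D := by
    intro d hd d' hd' x hx y hy hx' hy' hxy
    have hnc : ¬ Commute x y := hnoedge hd hx hy hxy.symm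
    have h1 := hmu x hx.1 y hy.1 hnc
    rw [hmu1] at h1
    exact (Set.ncard_le_one_iff (Set.toFinite _)).1 h1.le
      ⟨nb_symm hd' hx', nb_symm hd' hy'⟩ ⟨nb_symm hd hx, nb_symm hd hy⟩
  obtain ⟨e⟩ := SymThree.no_twins_sym5 hT hconj hloc ⟨x₀, hx₀⟩ hnt
  exact ⟨(Subgroup.topEquiv.symm.trans (MulEquiv.subgroupCongr hC.gen.symm)).trans e⟩

end CfsgLib.ThreeTransp.LocalThree
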